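import Cfsg.Agent.Lib.Char.DegPMinusE.Normalizer

/-!
# An exceptional character of degree `p - e` with `4 ∣ e`: there are only two of them

The alternating square has no exceptional constituent, so `t ∣ e`; then `ζ * conj ζ` has exactly
one and `ζ * conj ζ'` none, and the values on `P` are contradictory for `t ≥ 3`.
-/

set_option autoImplicit false

open scoped ComplexConjugate Classical

namespace CfsgLib.Char.DegPMinusE

open Cfsg CfsgLib CfsgLib.Blocks CfsgLib.Blocks.DefectOne CfsgLib.CharDeep.ExactP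
open CfsgLib.Char.DegHalf (pr isCharacter_pr classInner_pr_one)

universe u

variable {G : Type u} [Group G] [Fintype G] {p : ℕ} [hp : Fact p.Prime] {P : Sylow p G} {D : Frame P}
  {e t y : ℕ}

namespace Setting

variable (S : Setting D e t y)
include S

theorem real_xpow {τ : G} (hτ : τ * D.x * τ⁻¹ = D.x⁻¹) (φ : IrrCharacter G) (a : ZMod p) :
    conj ((φ : G → ℂ) (D.x ^ a.val)) = (φ : G → ℂ) (D.x ^ a.val) := by
  rw [conj_irr, show (D.x ^ a.val)⁻¹ = τ * D.x ^ a.val * τ⁻¹ by rw [← conj_pow, hτ, inv_pow], irr_conj_apply]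

/-- The number of exceptional characters divides `e`. -/
theorem t_dvd (h4 : 4 ∣ e) {ζ : IrrCharacter G} (hζ : ζ ∈ S.K.Y) : t ∣ e := by
  obtain ⟨τ, hτ2, hτ, hτY⟩ := S.exists_inverting h4 hζ
  have h2t := S.two_t
  have h2e := S.two_e
  have hp2 : p ≠ 2 := by
    have := S.het
    have : e * 2 ≤ e * t := Nat.mul_le_mul_left _ h2t
    omega
  set α : G → ℂ := fun g => ((ζ : G → ℂ) g * (ζ : G → ℂ) g - (ζ : G → ℂ) (g * g)) / 2 with hα
  have hch : IsCharacter G α := DegPMinusTwo.isCharacter_altSquare (isCharacter_irr ζ)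
  obtain ⟨m, hm, hexp⟩ := IsCharacter.exists_multiplicity hch
  choose w hw1 hw2 _hw3 using fun φ : IrrCharacter G => DegPMinusTwo.exists_fix_bound D hp2 (isCharacter_irr φ) hτ
  have hp0 : (p : ℂ) ≠ 0 := Nat.cast_ne_zero.2 hp.out.ne_zero
  have hpy : (p : ℂ) = (y : ℂ) + e := by exact_mod_cast S.hy.symm
  have hα1 : α 1 = (y : ℂ) * ((y : ℂ) - 1) / 2 := by
    simp only [hα, mul_one, irr_one_eq, S.K.deg_Y ζ hζ, S.deg]
    ring
  have hsum : ∑ a ∈ Finset.univ.erase (0 : ZMod p), α (D.x ^ a.val) = (e : ℂ) * ((y : ℂ) - 1) / 2 := by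
    have h2 : (2 : ZMod p) ≠ 0 := fun h => by
      have h' : ((2 : ℕ) : ZMod p) = 0 := by exact_mod_cast h
      have := Nat.le_of_dvd two_pos ((ZMod.natCast_eq_zero_iff 2 p).1 h')
      have := hp.out.two_le
      omega
    have hdbl : ∑ a ∈ Finset.univ.erase (0 : ZMod p), (ζ : G → ℂ) (D.x ^ (a + a).val)
        = ∑ a ∈ Finset.univ.erase (0 : ZMod p), (ζ : G → ℂ) (D.x ^ a.val) := by
      refine Finset.sum_equiv (Equiv.mulLeft₀ (2 : ZMod p) h2) (fun a => ?_) fun a _ => ?_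
      · simp [h2]
      · simp [two_mul]
    simp only [hα, D.xpow_add]
    rw [← Finset.sum_div, Finset.sum_sub_distrib, hdbl, S.sum_val hζ,
      Finset.sum_congr rfl (g := fun a : ZMod p => (ζ : G → ℂ) (D.x ^ a.val) * conj ((ζ : G → ℂ) (D.x ^ a.val)))
        fun a _ => by rw [S.real_xpow hτ], S.sum_normSq hζ]
    ring
  have hατ : α τ = -(((y : ℂ) - 1) / 2) := by
    simp only [hα, hτ2, hτY ζ hζ, irr_one_eq, S.K.deg_Y ζ hζ, S.deg]
    ring
  -- the fixed points of `P` in the alternating square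
  have hW : (p : ℂ) * ((∑ φ, m φ * w φ : ℕ) : ℂ) = (p : ℂ) * (((y : ℂ) - 1) / 2) := by
    rw [Nat.cast_sum, Finset.mul_sum, Finset.sum_congr rfl (g := fun φ : IrrCharacter G => (m φ : ℂ) * ((φ : G → ℂ) 1
        + ∑ a ∈ Finset.univ.erase (0 : ZMod p), (φ : G → ℂ) (D.x ^ a.val))) fun φ _ => by rw [← hw1]; push_cast; ring]
    simp only [mul_add, Finset.sum_add_distrib, Finset.mul_sum]
    rw [Finset.sum_comm, ← hexp 1, Finset.sum_congr rfl fun a _ => (hexp (D.x ^ a.val)).symm, hα1, hsum, hpy]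
    ring
  have hW' := mul_left_cancel₀ hp0 hW
  have hzero : ∀ φ, (m φ : ℝ) * ((w φ : ℝ) + ((φ : G → ℂ) τ).re) = 0 := by
    have hnn : ∀ φ, 0 ≤ (m φ : ℝ) * ((w φ : ℝ) + ((φ : G → ℂ) τ).re) := fun φ => by
      refine mul_nonneg (Nat.cast_nonneg _) ?_
      have := (abs_le.1 ((Complex.abs_re_le_norm _).trans (hw2 φ))).1
      linarith
    have hsum0 : ∑ φ, (m φ : ℝ) * ((w φ : ℝ) + ((φ : G → ℂ) τ).re) = 0 := by
      have h : (∑ φ, ((m φ : ℂ) * (w φ : ℂ) + (m φ : ℂ) * (φ : G → ℂ) τ)) = 0 := by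
        rw [Finset.sum_add_distrib, ← hexp τ, hατ]
        push_cast at hW'
        linear_combination hW'
      have h' := congrArg Complex.re h
      rw [Complex.re_sum, Complex.zero_re] at h'
      rw [← h']
      refine Finset.sum_congr rfl fun φ _ => ?_
      simp only [Complex.add_re, Complex.mul_re, Complex.natCast_re, Complex.natCast_im, zero_mul, sub_zero]
      ring
    exact fun φ => (Finset.sum_eq_zero_iff_of_nonneg fun φ _ => hnn φ).1 hsum0 φ (Finset.mem_univ φ)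
  have hY0 : ∀ η ∈ S.K.Y, m η = 0 := fun η hη => by
    have h := hzero η
    rw [hτY η hη, Complex.one_re, mul_eq_zero] at h
    rcases h with h | h
    · exact_mod_cast h
    · have : (0 : ℝ) ≤ w η := Nat.cast_nonneg _
      linarith
  have hs := S.sum_apply hexp
  rw [hsum, numY, Finset.sum_eq_zero hY0, Nat.cast_zero, add_zero] at hs
  have he0 : (e : ℂ) ≠ 0 := Nat.cast_ne_zero.2 (by omega)
  have h : ((2 * ((t : ℤ) * S.sgnX m) : ℤ) : ℂ) = (((e * (t - 1) : ℕ) : ℤ) : ℂ) := by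
    have h1 : (y : ℂ) = ((e * (t - 1) : ℕ) : ℂ) + 1 := by exact_mod_cast S.y_eq
    push_cast at h1 ⊢
    refine mul_left_cancel₀ he0 ?_
    linear_combination -2 * hs + (e : ℂ) * h1
  have hdvd : t ∣ e * (t - 1) := by
    have h' : 2 * ((t : ℤ) * S.sgnX m) = ((e * (t - 1) : ℕ) : ℤ) := by exact_mod_cast h
    exact Int.natCast_dvd_natCast.1 ⟨2 * S.sgnX m, by rw [← h']; ring⟩
  refine (Nat.Coprime.dvd_of_dvd_mul_right ?_ hdvd)
  have hc := Nat.coprime_self_add_right (m := t - 1) (n := 1)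
  rw [Nat.sub_add_cancel (show 1 ≤ t by omega)] at hc
  exact (hc.2 (Nat.coprime_one_right _)).symm

/-- The exceptional constituent of `ζ * conj ζ` is unique. -/
theorem numY_eq_one (h4 : 4 ∣ e) {ζ : IrrCharacter G} (hζ : ζ ∈ S.K.Y) {m : IrrCharacter G → ℕ}
    (hexp : ∀ g, pr ζ ζ g = ∑ φ, (m φ : ℂ) * (φ : G → ℂ) g) (hrel : (t : ℤ) * S.sgnX m + S.numY m = y) :
    S.numY m = 1 := by
  obtain ⟨q, hq⟩ := S.t_dvd h4 hζ
  have hy := S.y_eq
  have hle := S.numY_le hζ hexp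
  have h2t := S.two_t
  rw [hq, mul_assoc] at hy
  set N := S.numY m
  set c := q * (t - 1)
  have hN : (N : ℤ) = 1 + (t : ℤ) * ((c : ℤ) - S.sgnX m) := by
    have hy' : (y : ℤ) = (t : ℤ) * c + 1 := by exact_mod_cast hy
    linarith
  obtain ⟨k, hk⟩ : ∃ k : ℤ, k = (c : ℤ) - S.sgnX m := ⟨_, rfl⟩
  rw [← hk] at hN
  rcases lt_trichotomy k 0 with h | h | h
  · have : (t : ℤ) * k ≤ t * (-1) := mul_le_mul_of_nonneg_left (by omega) (Nat.cast_nonneg _)
    omega
  · subst h; omega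
  · have : (t : ℤ) * 1 ≤ t * k := mul_le_mul_of_nonneg_left (by omega) (Nat.cast_nonneg _)
    omega

/-- For `4 ∣ e` there are only two exceptional characters. -/
theorem t_eq_two (h4 : 4 ∣ e) : t = 2 := by
  by_contra hne
  have h2t := S.two_t
  have h2e := S.two_e
  have h3 : 3 ≤ t := by omega
  have hpair : ∀ η ∈ S.K.Y, ∀ η' ∈ S.K.Y, η ≠ η' → ∀ a : ZMod p, a ≠ 0 →
      (t : ℂ) * ((η : G → ℂ) (D.x ^ a.val) * (η' : G → ℂ) (D.x ^ a.val)) = -(e : ℂ) := by
    intro η hη η' hη' hne a ha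
    obtain ⟨τ, -, hτ, -⟩ := S.exists_inverting h4 hη
    obtain ⟨m, m', -, hexp, -, hexp', hrel, -, hsgn, hnum⟩ := S.exists_products hη hη' hne
    have h1 := S.numY_eq_one h4 hη hexp hrel
    have h0 : ∀ φ ∈ S.K.Y, m' φ = 0 := by
      refine Finset.sum_eq_zero_iff.1 ?_
      have : S.numY m' = 0 := by omega
      exact this
    have hv := S.apply_xpow hexp' ha
    rw [Finset.sum_eq_zero fun φ hφ => by rw [h0 φ hφ, Nat.cast_zero, zero_mul], add_zero, hsgn, pr,
      S.real_xpow hτ] at hv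
    rw [hv]
    have hy : (y : ℤ) = (e : ℤ) * ((t : ℤ) - 1) + 1 := by
      have := congrArg (fun n : ℕ => (n : ℤ)) S.y_eq
      simpa [Nat.cast_sub (show 1 ≤ t by omega)] using this
    have hz : (t : ℤ) * (S.sgnX m - e) = -(e : ℤ) := by
      rw [h1, hy] at hrel
      push_cast at hrel
      linarith
    exact_mod_cast hz
  obtain ⟨a, b, c, ha, hb, hc, hab, hac, hbc⟩ := Finset.two_lt_card_iff.1 (show 2 < S.K.Y.card by rw [S.card_Y]; omega)
  have ha0 : (1 : ZMod p) ≠ 0 := one_ne_zero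
  have hte : (t : ℂ) ≠ 0 := Nat.cast_ne_zero.2 (by omega)
  have he : (e : ℂ) ≠ 0 := Nat.cast_ne_zero.2 (by omega)
  -- all exceptional characters take the same value at `x`
  have hsame : ∀ η ∈ S.K.Y, (η : G → ℂ) (D.x ^ (1 : ZMod p).val) = (a : G → ℂ) (D.x ^ (1 : ZMod p).val) := by
    intro η hη
    by_cases h : η = a
    · rw [h]
    obtain ⟨z, hz, hz1, hz2⟩ : ∃ z ∈ S.K.Y, z ≠ η ∧ z ≠ a := by
      by_cases h' : η = b
      · exact ⟨c, hc, fun e => hbc (h' ▸ e.symm), hac.symm⟩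
      · exact ⟨b, hb, Ne.symm h', hab.symm⟩
    have h1 := hpair η hη z hz (Ne.symm hz1) 1 ha0
    have h2 := hpair a ha z hz (Ne.symm hz2) 1 ha0
    have hz0 : (z : G → ℂ) (D.x ^ (1 : ZMod p).val) ≠ 0 := fun e0 => he (by
      rw [e0, mul_zero, mul_zero] at h1
      exact neg_eq_zero.1 h1.symm)
    exact mul_right_cancel₀ hz0 (mul_left_cancel₀ hte (h1.trans h2.symm))
  obtain ⟨τ, -, hτ, -⟩ := S.exists_inverting h4 ha
  have hcol := S.col_Y ha0
  rw [Finset.sum_congr rfl fun η hη => by rw [hsame η hη], Finset.sum_const, S.card_Y, nsmul_eq_mul,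
    S.real_xpow hτ] at hcol
  have h := hpair a ha b hb hab 1 ha0
  rw [hsame b hb, hcol] at h
  have h' : (y : ℤ) = -(e : ℤ) := by exact_mod_cast h
  omega

end Setting

end CfsgLib.Char.DegPMinusE
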