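import Cfsg.Agent.Lib.Char.DegPMinusE.Simple
import Cfsg.Agent.Lib.Char.DegPMinusTwo.Main
import Cfsg.Agent.Lib.Char.DegHalf.Main
import Cfsg.Agent.Lib.Char.FewSylow.Cubed
import Cfsg.Agent.S0144

/-!
# A simple group of order `p * q ^ b * g₀` with `g₀ < p - 1`
-/

set_option autoImplicit false

open scoped Classical

namespace CfsgLib.Char.DegPMinusE

open Cfsg CfsgLib CfsgLib.Blocks CfsgLib.Blocks.DefectOne CfsgLib.CharDeep.ExactP

universe u

section

variable {G : Type u} [Group G] [Finite G] [IsSimpleGroup G] (hG : ¬ IsCyclic G)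
include hG

omit [Finite G] in
theorem not_comm : ¬ ∀ a b : G, a * b = b * a := fun h => by
  let _ : CommGroup G := { ‹Group G› with mul_comm := h }
  exact hG inferInstance

omit [Finite G] in
theorem center_eq_bot : Subgroup.center G = ⊥ :=
  (inferInstance : (Subgroup.center G).Normal).eq_bot_or_eq_top.resolve_right fun h =>
    not_comm hG fun a b => (Subgroup.mem_center_iff.1 (h ▸ Subgroup.mem_top b) a)

omit [Finite G] in
theorem commutator_eq_top : commutator G = ⊤ :=
  (inferInstance : (commutator G).Normal).eq_bot_or_eq_top.resolve_left fun h =>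
    not_comm hG fun a b => commutatorElement_eq_one_iff_mul_comm.1 (Subgroup.mem_bot.1
      (h ▸ Subgroup.commutator_mem_commutator (Subgroup.mem_top a) (Subgroup.mem_top b)))

theorem one_lt_deg [Fintype G] (χ : IrrCharacter G) (hne : χ ≠ DegreeTools.oneChar G) :
    1 < charDegree (χ : G → ℂ) := by
  refine lt_of_le_of_ne (charDegree_pos χ) fun h => hne (Subtype.ext (funext fun g => ?_))
  obtain ⟨l, hl⟩ := exists_hom_of_apply_one_eq_one (isCharacter_irr χ) (by rw [irr_one_eq, ← h]; norm_num)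
  have hg : g ∈ l.ker := Abelianization.commutator_subset_ker l (commutator_eq_top hG ▸ Subgroup.mem_top g)
  rw [congrFun hl g, MonoidHom.mem_ker.1 hg, DegreeTools.coe_oneChar]
  rfl

end

/-- The conclusion. -/
def IsPSLOfOrderPQ (G : Type u) [Group G] (p : ℕ) : Prop :=
  (∃ (m : ℕ) (F : Type) (_ : Field F) (_ : Fintype F), Fintype.card F = p ∧ (p = 2 ^ m + 1 ∨ p = 2 ^ m - 1) ∧
      Nonempty (G ≃* Matrix.ProjectiveSpecialLinearGroup (Fin 2) F)) ∨
    (∃ (m : ℕ) (F : Type) (_ : Field F) (_ : Fintype F), Fintype.card F = 2 ^ m ∧ p = 2 ^ m + 1 ∧ 3 < p ∧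
      Nonempty (G ≃* Matrix.ProjectiveSpecialLinearGroup (Fin 2) F))

variable {G : Type u} [Group G] [Fintype G] [IsSimpleGroup G] {p : ℕ} [hp : Fact p.Prime] {P : Sylow p G}
  {D : Frame P}

theorem Setting.classify {e y : ℕ} (S : Setting D e 2 y) (hG : ¬ IsCyclic G) {a b : ℕ} (hea : e = 2 ^ a) (hb : b ≠ 0)
    (hcard : Nat.card G = p * 2 ^ b * y) (ho : Odd y)
    (heven : ∀ χ ∈ S.K.X, χ ≠ DegreeTools.oneChar G → 2 ∣ charDegree (χ : G → ℂ)) : IsPSLOfOrderPQ G p := by
  obtain ⟨hpe, hye⟩ := S.two_e_succ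
  have hle := S.sylow_two_le (center_eq_bot hG) hea hb hcard ho heven
  have hN := Subgroup.card_mul_index (nrm P)
  rw [S.card_nrm, hcard, mul_assoc, mul_assoc] at hN
  have hN' : e * (nrm P).index = 2 ^ b * y := Nat.eq_of_mul_eq_mul_left hp.out.pos hN
  have hidx0 : Nat.card (Sylow p G) = (nrm P).index := P.card_eq_index_normalizer
  have hmod := card_sylow_modEq_one p G
  rw [hidx0] at hmod
  obtain ⟨n, hn⟩ : ∃ n, (nrm P).index = 1 + n * p := by
    obtain ⟨c, hc⟩ := (Nat.modEq_iff_dvd' (Nat.one_le_iff_ne_zero.2 Subgroup.index_ne_zero_of_finite)).1 hmod.symm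
    exact ⟨c, by rw [mul_comm, ← hc]; have := Nat.one_le_iff_ne_zero.2 (Subgroup.index_ne_zero_of_finite (H := nrm P)); omega⟩
  have hfew : 2 * Nat.card (Sylow p G) < (p + 1) * (p + 2) := by
    rw [hidx0]
    refine Nat.lt_of_mul_lt_mul_left (a := e) ?_
    rw [mul_left_comm, hN', ← hpe]
    have h1 : 2 ^ b * y ≤ y * y * y := Nat.mul_le_mul_right _ hle
    have := S.two_e
    subst hye
    nlinarith
  rcases FewSylow.classification_of_notRep (commutator_eq_top hG) D S.hK hn (FewSylow.notRep_of_few hn hfew) with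
    ⟨F, i1, i2, hF, -, hiso⟩ | h
  · exact Or.inl ⟨a + 1, F, i1, i2, hF, Or.inl (by rw [pow_succ, ← hea]; omega), hiso⟩
  · exact Or.inr h

omit [Fintype G] in
set_option maxHeartbeats 1000000 in
theorem classification [Finite G] (hG : ¬ IsCyclic G) {q b g₀ : ℕ} (hq : q.Prime) (hpq : p ≠ q)
    (hcard : Nat.card G = p * q ^ b * g₀) (hg : g₀ < p - 1) : IsPSLOfOrderPQ G p := by
  have := Fintype.ofFinite G
  have hg0 : g₀ ≠ 0 := fun h => Nat.card_pos.ne' (show Nat.card G = 0 by rw [hcard, h, mul_zero])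
  have h5 : 5 ≤ p := by
    by_contra h
    have h2 := hp.out.two_le
    rcases (show p = 2 ∨ p = 3 ∨ p = 4 by omega) with rfl | rfl | rfl
    · omega
    · obtain rfl : g₀ = 1 := by omega
      have hsol := Cfsg.Agent.S0144.isSolvable 3 q hp.out hq (Nat.card G) G rfl 1 b (by rw [hcard, mul_one, pow_one])
      exact not_comm hG (IsSimpleGroup.comm_iff_isSolvable.2 hsol)
    · exact absurd hp.out (by decide)
  have hrest : ¬ p ∣ q ^ b * g₀ := fun h => by
    rcases hp.out.dvd_mul.1 h with h | h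
    · exact hpq ((Nat.prime_dvd_prime_iff_eq hp.out hq).1 (hp.out.dvd_of_dvd_pow h))
    · have := Nat.le_of_dvd (Nat.pos_of_ne_zero hg0) h
      omega
  have hsq : ¬ p ^ 2 ∣ Nat.card G := fun h => hrest (by
    rw [hcard, mul_assoc, pow_two] at h
    exact Nat.dvd_of_mul_dvd_mul_left hp.out.pos h)
  obtain ⟨P⟩ : Nonempty (Sylow p G) := inferInstance
  have hdiv : p ∣ Nat.card G := hcard ▸ Dvd.intro _ (mul_assoc _ _ _).symm
  have hP : Nat.card P = p := by
    obtain ⟨k, hk⟩ := P.2.exists_card_eq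
    have h1 : p ∣ Nat.card P := P.dvd_card_of_dvd_card hdiv
    rcases k with _ | _ | k
    · rw [hk, pow_zero, Nat.dvd_one] at h1; exact absurd h1 hp.out.ne_one
    · rw [hk]; exact pow_one p
    · exfalso
      refine hsq (dvd_trans (pow_dvd_pow p (show 2 ≤ k + 1 + 1 by omega)) ?_)
      rw [← hk]
      exact Subgroup.card_subgroup_dvd_card _
  have hnorm : ∀ H : Subgroup G, H.Normal → Nat.card H ≠ p := fun H hH hc => by
    rcases hH.eq_bot_or_eq_top with rfl | rfl
    · rw [Subgroup.card_bot] at hc; omega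
    · rw [Subgroup.card_top] at hc
      exact hG (isCyclic_of_prime_card hc)
  have hnn : ¬ (P : Subgroup G).Normal := fun h => hnorm _ h hP
  obtain ⟨D⟩ := exists_frame P hP
  obtain ⟨K⟩ := exists_pblk D
  set e := Nat.card D.act.range with he
  set t := K.Y.card with ht
  have het : e * t = p - 1 := K.card_Y
  have he0 : 0 < e := Nat.card_pos
  have ht0 : 0 < t := Nat.pos_of_ne_zero fun h => by rw [h, mul_zero] at het; omega
  have hdvd : ∀ χ : IrrCharacter G, ¬ p ∣ charDegree (χ : G → ℂ) → ¬ q ∣ charDegree (χ : G → ℂ) →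
      charDegree (χ : G → ℂ) ∣ g₀ := fun χ h1 h2 => by
    have h := charDegree_dvd χ
    rw [hcard, mul_assoc] at h
    exact (((hq.coprime_iff_not_dvd.2 h2).symm).pow_right b).dvd_of_dvd_mul_left
      (((hp.out.coprime_iff_not_dvd.2 h1).symm).dvd_of_dvd_mul_left h)
  have hfaith : ∀ χ : IrrCharacter G, χ ≠ DegreeTools.oneChar G → ∀ g : G,
      (χ : G → ℂ) g = (χ : G → ℂ) 1 → g = 1 := fun χ hχ =>
    faithful_of_simple χ (one_lt_deg hG χ hχ).ne'
  have hlow : ∀ χ : IrrCharacter G, χ ≠ DegreeTools.oneChar G → p ≤ 2 * charDegree (χ : G → ℂ) + 1 := fun χ hχ =>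
    not_lt.1 fun h => hnn (sylow_normal_aux _ G rfl hsq _ (isCharacter_irr χ) (hfaith χ hχ) h P)
  have hX : ∀ χ ∈ K.X, χ ≠ DegreeTools.oneChar G → q ∣ charDegree (χ : G → ℂ) := by
    intro χ hχ hne
    by_contra h2
    obtain ⟨k, hk⟩ := Int.modEq_iff_dvd.1 (K.mod_X χ hχ).symm
    have h1 : ¬ p ∣ charDegree (χ : G → ℂ) := by
      rintro ⟨c, hc⟩
      rcases K.sgn_X χ hχ with hs | hs <;> rw [hs, hc] at hk <;> push_cast at hk
      · exact hp.out.not_dvd_one (Int.natCast_dvd_natCast.1 ⟨(c : ℤ) - k, by push_cast; linarith⟩)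
      · exact hp.out.not_dvd_one (Int.natCast_dvd_natCast.1 ⟨k - (c : ℤ), by push_cast; linarith⟩)
    have h3 := Nat.le_of_dvd (Nat.pos_of_ne_zero hg0) (hdvd χ h1 h2)
    have h4 := one_lt_deg hG χ hne
    rcases lt_trichotomy k 0 with h | rfl | h
    · have : (p : ℤ) * k ≤ p * (-1) := mul_le_mul_of_nonneg_left (by omega) (Nat.cast_nonneg _)
      rcases K.sgn_X χ hχ with hs | hs <;> rw [hs] at hk <;> omega
    · rcases K.sgn_X χ hχ with hs | hs <;> rw [hs] at hk <;> omega
    · have : (p : ℤ) * 1 ≤ p * k := mul_le_mul_of_nonneg_left (by omega) (Nat.cast_nonneg _)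
      rcases K.sgn_X χ hχ with hs | hs <;> rw [hs] at hk <;> omega
  obtain ⟨η, hη⟩ : ∃ η, η ∈ K.Y := Finset.card_pos.1 ht0
  have hrel : ∑ χ ∈ K.X, K.s χ * (charDegree (χ : G → ℂ) : ℤ) + K.A * (K.y : ℤ) = 0 := by
    have h := K.rel η hη 1 (by rw [orderOf_one]; exact hp.out.not_dvd_one)
    simp only [irr_one_eq, K.deg_Y η hη] at h
    exact_mod_cast h
  have hsec1 : DegreeTools.oneChar G ∈ K.X ∨ DegreeTools.oneChar G ∈ K.Y := by
    by_contra h
    push Not at h
    have h1 := K.out _ h.1 h.2 1 one_ne_zero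
    rw [Frame.sec, Frame.comp, Cfsg.classInner] at h1
    simp [θone_apply, DegreeTools.coe_oneChar] at h1
  have hq1 : ¬ (q : ℤ) ∣ 1 := fun h => hq.not_dvd_one (Int.natCast_dvd_natCast.1 h)
  rcases hsec1 with hone | hone
  swap
  · exfalso
    have hy : K.y = 1 := (K.deg_Y _ hone).symm.trans DegreeTools.deg_oneChar
    have hX' : ∀ χ ∈ K.X, (q : ℤ) ∣ K.s χ * (charDegree (χ : G → ℂ) : ℤ) := fun χ hχ =>
      Dvd.dvd.mul_left (Int.natCast_dvd_natCast.2
        (hX χ hχ fun e => Finset.disjoint_left.1 K.disj hχ (e ▸ hone))) _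
    have h := Finset.dvd_sum hX'
    rw [hy] at hrel
    refine hq1 ?_
    rcases K.sgn_A with hA | hA <;> rw [hA] at hrel
    · rw [show ((1 : ℕ) : ℤ) = 1 from rfl] at hrel
      exact (Int.dvd_neg).1 (by rwa [show (-1 : ℤ) = ∑ χ ∈ K.X, K.s χ * (charDegree (χ : G → ℂ) : ℤ) by omega])
    · rwa [show (1 : ℤ) = ∑ χ ∈ K.X, K.s χ * (charDegree (χ : G → ℂ) : ℤ) by omega]
  have hηne : η ≠ DegreeTools.oneChar G := fun e => Finset.disjoint_left.1 K.disj hone (e ▸ hη)
  have hs1 : (K.s (DegreeTools.oneChar G) : ℂ) = 1 := by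
    rw [← K.sec_X _ hone 1 one_ne_zero, Frame.sec, Frame.comp, Cfsg.classInner]
    simp [θone_apply, DegreeTools.coe_oneChar]
  have hs1' : K.s (DegreeTools.oneChar G) = 1 := by exact_mod_cast hs1
  rw [← Finset.add_sum_erase _ _ hone, hs1', DegreeTools.deg_oneChar, one_mul] at hrel
  set R := ∑ χ ∈ K.X.erase (DegreeTools.oneChar G), K.s χ * (charDegree (χ : G → ℂ) : ℤ) with hR
  have hqR : (q : ℤ) ∣ R := Finset.dvd_sum fun χ hχ => Dvd.dvd.mul_left
    (Int.natCast_dvd_natCast.2 (hX χ (Finset.mem_of_mem_erase hχ) (Finset.ne_of_mem_erase hχ))) _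
  have hqy : ¬ q ∣ K.y := fun h => hq1 (by
    have h' : (q : ℤ) ∣ -(R + K.A * (K.y : ℤ)) := (dvd_add hqR ((Int.natCast_dvd_natCast.2 h).mul_left _)).neg_right
    rwa [show -(R + K.A * (K.y : ℤ)) = 1 by push_cast at hrel; linarith] at h')
  have hyd : p ≤ 2 * K.y + 1 := by have h := hlow η hηne; rwa [K.deg_Y η hη] at h
  have het' : e ≤ p - 1 := het ▸ Nat.le_mul_of_pos_right e ht0
  obtain ⟨k, hk⟩ := Int.modEq_iff_dvd.1 K.mod_Y.symm
  rw [← he] at hk
  have hpy : ¬ p ∣ K.y := by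
    rintro ⟨c, hc⟩
    have hpe : (p : ℤ) ∣ K.A * (e : ℤ) := ⟨k - c, by rw [hc] at hk; push_cast at hk; linarith⟩
    rcases K.sgn_A with hA | hA <;> rw [hA] at hpe
    · rw [one_mul, Int.natCast_dvd_natCast] at hpe; have := Nat.le_of_dvd he0 hpe; omega
    · rw [neg_one_mul, Int.dvd_neg, Int.natCast_dvd_natCast] at hpe; have := Nat.le_of_dvd he0 hpe; omega
  have hyg : K.y ∣ g₀ := by
    have h := hdvd η (by rwa [K.deg_Y η hη]) (by rwa [K.deg_Y η hη])
    rwa [K.deg_Y η hη] at h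
  have hylt : K.y < p - 1 := lt_of_le_of_lt (Nat.le_of_dvd (Nat.pos_of_ne_zero hg0) hyg) hg
  have hg0y : g₀ = K.y := by
    obtain ⟨c, hc⟩ := hyg
    rcases c with _ | _ | c
    · rw [mul_zero] at hc; exact absurd hc hg0
    · rw [hc, zero_add, mul_one]
    · exfalso
      have : K.y * 2 ≤ K.y * (c + 1 + 1) := Nat.mul_le_mul_left _ (by omega)
      omega
  subst hg0y
  have ht2 : 2 ≤ t := by
    by_contra h
    rcases (show t = 1 ∨ t = 0 by omega) with h1 | h1
    swap
    · omega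
    rw [h1, mul_one] at het
    rcases lt_trichotomy k 0 with h | rfl | h
    · have : (p : ℤ) * k ≤ p * (-1) := mul_le_mul_of_nonneg_left (by omega) (Nat.cast_nonneg _)
      rcases K.sgn_A with hA | hA <;> rw [hA] at hk <;> omega
    · rcases K.sgn_A with hA | hA <;> rw [hA] at hk <;> omega
    · rcases eq_or_lt_of_le (show 1 ≤ k by omega) with rfl | h2
      · rcases K.sgn_A with hA | hA <;> rw [hA] at hk <;> omega
      · have : (p : ℤ) * 2 ≤ p * k := mul_le_mul_of_nonneg_left (by omega) (Nat.cast_nonneg _)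
        rcases K.sgn_A with hA | hA <;> rw [hA] at hk <;> omega
  have h2e : 2 * e ≤ p - 1 := by
    rw [← het, mul_comm 2 e]; exact Nat.mul_le_mul_left _ ht2
  rcases K.sgn_A with hA | hA
  swap
  · -- `A = -1`
    have hye : K.y = e := by
      rw [hA] at hk
      rcases lt_trichotomy k 0 with h | rfl | h
      · have : (p : ℤ) * k ≤ p * (-1) := mul_le_mul_of_nonneg_left (by omega) (Nat.cast_nonneg _)
        omega
      · omega
      · have : (p : ℤ) * 1 ≤ p * k := mul_le_mul_of_nonneg_left (by omega) (Nat.cast_nonneg _)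
        omega
    have hdeg : 2 * charDegree (η : G → ℂ) + 1 = p := by rw [K.deg_Y η hη]; omega
    obtain ⟨-, -, -, -, hord⟩ := DegHalf.exists_main h5 P hP hnn (isCharacter_irr η) (hfaith η hηne) hdeg
    obtain ⟨iso⟩ := DegHalf.main hdiv hsq hnorm (isCharacter_irr η) (hfaith η hηne) hdeg
    rw [center_eq_bot hG, Subgroup.card_bot, one_mul, hcard, K.deg_Y η hη, mul_assoc, mul_assoc, mul_comm K.y] at hord
    have hqb : q ^ b = p + 1 := Nat.eq_of_mul_eq_mul_right (by omega) (Nat.eq_of_mul_eq_mul_left hp.out.pos hord)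
    obtain ⟨w, hw⟩ := hp.out.odd_of_ne_two (by omega)
    obtain rfl : q = 2 := ((Nat.prime_dvd_prime_iff_eq Nat.prime_two hq).1
      (Nat.prime_two.dvd_of_dvd_pow (show 2 ∣ q ^ b by rw [hqb]; omega))).symm
    refine Or.inl ⟨b, ZMod p, inferInstance, inferInstance, ZMod.card p, Or.inr (by omega), ⟨MulEquiv.trans ?_ iso⟩⟩
    exact ((QuotientGroup.quotientMulEquivOfEq (center_eq_bot hG)).trans QuotientGroup.quotientBot).symm
  -- `A = 1`
  have hye : K.y + e = p := by
    rw [hA] at hk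
    rcases lt_trichotomy k 1 with h | rfl | h
    · have : (p : ℤ) * k ≤ p * 0 := mul_le_mul_of_nonneg_left (by omega) (Nat.cast_nonneg _)
      omega
    · omega
    · have : (p : ℤ) * 2 ≤ p * k := mul_le_mul_of_nonneg_left (by omega) (Nat.cast_nonneg _)
      omega
  have hyt : K.y + e = e * t + 1 := by omega
  have he2 : 2 ≤ e := by
    by_contra h
    have hX1 : K.X.erase (DegreeTools.oneChar G) = ∅ := by
      rw [← Finset.card_eq_zero, Finset.card_erase_of_mem hone, K.card_X, ← he]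
      omega
    rw [hR, hX1, Finset.sum_empty, hA] at hrel
    push_cast at hrel
    omega
  have hK : D.K0 = ⊥ := (Subgroup.eq_bot_iff_forall _).2 fun v hv =>
    hfaith η hηne v (K.apply_K0 hA hη (by omega) ⟨v, hv⟩)
  have hedvd : e ∣ q ^ b := by
    have h : p * e ∣ p * (q ^ b * K.y) := by
      rw [← mul_assoc, ← hcard]
      refine dvd_trans (dvd_of_eq ?_) (Subgroup.card_subgroup_dvd_card (nrm P))
      rw [D.card_nrm, D.card_cent, hK, Subgroup.card_bot, mul_one, mul_comm]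
    refine Nat.Coprime.dvd_of_dvd_mul_right ?_ (Nat.dvd_of_mul_dvd_mul_left hp.out.pos h)
    have hc : Nat.Coprime e p := ((hp.out.coprime_iff_not_dvd).2 fun h => by
      have := Nat.le_of_dvd he0 h; omega).symm
    rw [show p = K.y + e from hye.symm] at hc
    exact Nat.coprime_add_self_right.1 hc
  obtain ⟨a, -, hea⟩ := (Nat.dvd_prime_pow hq).1 hedvd
  have hqe : q ∣ e := by
    rw [hea]; exact dvd_pow_self q fun h => by rw [h, pow_zero] at hea; omega
  obtain rfl : q = 2 := by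
    have h1 : (q : ℤ) ∣ 1 + (K.y : ℤ) := by
      have h := (hqR.neg_right)
      rwa [show -R = 1 + (K.y : ℤ) by rw [hA] at hrel; push_cast at hrel; linarith] at h
    have h2 : (q : ℤ) ∣ (K.y : ℤ) - 1 := by
      have h := (Int.natCast_dvd_natCast.2 hqe).mul_right ((t : ℤ) - 1)
      have hy' : (K.y : ℤ) + e = (e : ℤ) * t + 1 := by exact_mod_cast hyt
      rwa [show (e : ℤ) * ((t : ℤ) - 1) = (K.y : ℤ) - 1 by linarith] at h
    have h3 := dvd_sub h1 h2
    rw [show 1 + (K.y : ℤ) - ((K.y : ℤ) - 1) = ((2 : ℕ) : ℤ) by push_cast; ring, Int.natCast_dvd_natCast] at h3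
    exact (Nat.prime_dvd_prime_iff_eq hq Nat.prime_two).1 h3
  have hb : b ≠ 0 := fun h => by
    rw [h, pow_zero, Nat.dvd_one] at hedvd; omega
  have ho : Odd K.y := Nat.odd_iff.2 (by omega)
  by_cases hcase : e = 2 ∧ 5 < p
  · obtain ⟨c, F, i1, i2, hpc, hF, ⟨iso⟩⟩ := DegPMinusTwo.classification hcase.2 P hP hnn _ η.2 (hfaith η hηne)
      (by rw [K.deg_Y η hη]; omega)
    have : Unique (Subgroup.center G) := by
      rw [center_eq_bot hG]; infer_instance
    have hc : c ≠ 0 := fun h => by rw [h] at hpc; omega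
    obtain ⟨iso'⟩ := FewSylow.nonempty_sl_equiv_psl (F := F) (hF ▸ Nat.even_pow.2 ⟨even_two, hc⟩)
    exact Or.inr ⟨c, F, i1, i2, hF, hpc, by omega, ⟨(iso.trans MulEquiv.prodUnique).trans iso'.symm⟩⟩
  · have S : Setting D e t K.y := ⟨K, hK, he.symm, het, hye, he2, ht2, hA, rfl⟩
    have htwo : t = 2 := by
      by_cases he' : e = 2
      · have : p = 5 := by omega
        rw [he', this] at het
        omega
      · refine S.t_eq_two ?_
        rcases a with _ | _ | a
        · rw [pow_zero] at hea; omega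
        · rw [pow_one] at hea; omega
        · exact ⟨2 ^ a, by rw [hea, pow_succ, pow_succ]; ring⟩
    refine Setting.classify ⟨K, hK, he.symm, htwo ▸ het, hye, he2, le_rfl, hA, rfl⟩ hG hea hb hcard ho hX

end CfsgLib.Char.DegPMinusE
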