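import Cfsg.Agent.Lib.Char.DegPMinusE.Setting
import Cfsg.Agent.Lib.Char.DegPMinusTwo.Avg
import Cfsg.Agent.Lib.Blocks.SelfCentPrime

/-!
# An exceptional character of degree `p - e`: the restriction to the normalizer

On the normalizer the fixed points of `P` form a linear character, which bounds the number of
exceptional constituents of `ζ * conj ζ` by `t`.
-/

set_option autoImplicit false

open scoped ComplexConjugate Classical

namespace CfsgLib.Char.DegPMinusE

open Cfsg CfsgLib CfsgLib.Blocks CfsgLib.Blocks.DefectOne CfsgLib.CharDeep.ExactP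
open CfsgLib.Char.DegHalf (pr isCharacter_pr classInner_pr_one)

universe u

variable {G : Type u} [Group G] [Fintype G] {p : ℕ} [hp : Fact p.Prime] {P : Sylow p G} {D : Frame P}
  {e t y : ℕ}

namespace Setting

variable (S : Setting D e t y)
include S

omit S in
/-- An element moving `x` is conjugate to its translates by `P`. -/
theorem isConj_mul (n : nrm P) (hn : D.act n ≠ 1) (a : ZMod p) : IsConj (D.x ^ a.val * (n : G)) (n : G) := by
  have hu : (1 : ZMod p) - (D.act n : ZMod p) ≠ 0 := fun e => hn (Units.ext (sub_eq_zero.1 e).symm)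
  set b := a * ((1 : ZMod p) - (D.act n : ZMod p))⁻¹ with hb
  refine IsConj.symm (isConj_iff.2 ⟨D.x ^ b.val, ?_⟩)
  have h1' : (n : G) * (D.x ^ b.val)⁻¹ = D.x ^ (-((D.act n : ZMod p) * b)).val * (n : G) := by
    have h2 : (n : G) * D.x ^ b.val * (n : G)⁻¹ = D.x ^ ((D.act n : ZMod p) * b).val := by
      rw [← conj_pow, D.conj_x, D.xpow_mul]
    have h3 : D.x ^ (-((D.act n : ZMod p) * b)).val = (D.x ^ ((D.act n : ZMod p) * b).val)⁻¹ :=
      eq_inv_of_mul_eq_one_left (by rw [D.xpow_add, neg_add_cancel, ZMod.val_zero, pow_zero])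
    rw [h3, ← h2]; group
  rw [mul_assoc (D.x ^ b.val), h1', ← mul_assoc, D.xpow_add,
    show b + -((D.act n : ZMod p) * b) = a by rw [hb]; field_simp; ring]

theorem regular_of_act_ne (n : nrm P) (hn : D.act n ≠ 1) : ¬ p ∣ orderOf (n : G) := by
  intro hd
  refine hn ((SelfCent.act_eq_one_iff S.hK n).2 ?_)
  obtain ⟨u, a, ha, hu⟩ := S.exists_conj_xpow hd
  have hord : orderOf (n : G) = p := by
    have h1 : orderOf (u * (n : G) * u⁻¹) = orderOf (n : G) := (MulAut.conj u).orderOf_eq (n : G)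
    rw [← h1, hu]
    exact D.orderOf_xpow ha
  have hp' : IsPGroup p (Subgroup.zpowers (n : G)) := IsPGroup.of_card (n := 1) (by rw [Nat.card_zpowers, hord, pow_one])
  exact (P.3 (IsPGroup.to_sup_of_normal_right' hp' P.2 (Subgroup.zpowers_le.2 n.2)) le_sup_right).le
    ((le_sup_left : Subgroup.zpowers (n : G) ≤ _) (Subgroup.mem_zpowers _))

theorem card_nrm : Nat.card (nrm P) = p * e := by
  rw [D.card_nrm, D.card_cent, S.hK, S.range, Subgroup.card_bot, mul_one, mul_comm]

theorem sum_split (f : nrm P → ℂ) :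
    ∑ n, f n = ∑ a : ZMod p, f ⟨D.x ^ a.val, Subgroup.le_normalizer (pow_mem D.x_mem _)⟩
      + ∑ n ∈ Finset.univ.filter (fun n => ¬ D.act n = 1), f n := by
  rw [← Finset.sum_filter_add_sum_filter_not Finset.univ (fun n : nrm P => D.act n = 1)]
  congr 1
  refine (Finset.sum_bij (fun (a : ZMod p) _ => (⟨D.x ^ a.val, Subgroup.le_normalizer (pow_mem D.x_mem _)⟩ : nrm P))
    (fun a _ => Finset.mem_filter.2 ⟨Finset.mem_univ _, (SelfCent.act_eq_one_iff S.hK _).2 (pow_mem D.x_mem _)⟩)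
    (fun a _ b _ h => D.xpow_inj (congrArg Subtype.val h)) (fun n hn => ?_) fun a _ => rfl).symm
  have hmem := (SelfCent.act_eq_one_iff S.hK n).1 (Finset.mem_filter.1 hn).2
  rw [← D.zp] at hmem
  obtain ⟨i, hi⟩ := (isOfFinOrder_of_finite D.x).mem_powers_iff_mem_zpowers.2 hmem
  exact ⟨(i : ZMod p), Finset.mem_univ _, Subtype.ext ((D.xpow_eq i).trans hi)⟩

theorem card_moving : (Finset.univ.filter fun n : nrm P => ¬ D.act n = 1).card + p = p * e := by
  have h := S.sum_split fun _ => (1 : ℂ)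
  simp only [Finset.sum_const, Finset.card_univ, ZMod.card, nsmul_eq_mul, mul_one] at h
  rw [← Nat.card_eq_fintype_card, S.card_nrm] at h
  have h' : p * e = p + (Finset.univ.filter fun n : nrm P => ¬ D.act n = 1).card := by exact_mod_cast h
  omega

/-- The fixed points of `P` give a linear character of the normalizer. -/
theorem exists_lambda {ζ : IrrCharacter G} (hζ : ζ ∈ S.K.Y) :
    ∃ l : nrm P →* ℂˣ, (∀ n, D.act n = 1 → l n = 1) ∧ ∀ n, D.act n ≠ 1 → (ζ : G → ℂ) (n : G) = (l n : ℂ) := by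
  obtain ⟨d, ρ, hρ⟩ := Dade.isCharacter_avg (isCharacter_irr ζ) (nrm P).subtype (P : Subgroup G)
    fun n u hu => (Subgroup.mem_normalizer_iff.1 n.2 u).1 hu
  have hp0 : (p : ℂ) ≠ 0 := Nat.cast_ne_zero.2 hp.out.ne_zero
  have hav : ∀ n : nrm P, ρ.character n = (p : ℂ)⁻¹ * ∑ a : ZMod p, (ζ : G → ℂ) (D.x ^ a.val * (n : G)) := by
    intro n
    rw [hρ]
    show (Nat.card (P : Subgroup G) : ℂ)⁻¹ * _ = _
    rw [show Nat.card (P : Subgroup G) = p from D.card_P]
    refine congrArg _ ?_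
    refine (Fintype.sum_bijective (fun a : ZMod p => (⟨D.x ^ a.val, pow_mem D.x_mem _⟩ : (P : Subgroup G))) ?_ _ _
      fun a => rfl).symm
    refine (Fintype.bijective_iff_injective_and_card _).2 ⟨fun a b e => D.xpow_inj (congrArg Subtype.val e), ?_⟩
    rw [ZMod.card, ← Nat.card_eq_fintype_card, show Nat.card (P : Subgroup G) = p from D.card_P]
  have h1 : ρ.character 1 = 1 := by
    rw [hav]
    simp only [OneMemClass.coe_one, mul_one]
    rw [← Finset.add_sum_erase _ _ (Finset.mem_univ (0 : ZMod p)), ZMod.val_zero, pow_zero, S.sum_val hζ, irr_one_eq,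
      S.K.deg_Y ζ hζ, S.deg, show (y : ℂ) + e = p by exact_mod_cast S.hy, inv_mul_cancel₀ hp0]
  obtain ⟨l, hl⟩ := exists_hom_of_apply_one_eq_one (isCharacter_of_rep ρ) h1
  have hl' : ∀ n, ρ.character n = (l n : ℂ) := fun n => congrFun hl n
  refine ⟨l, fun n hn => ?_, fun n hn => ?_⟩
  · have hmem := (SelfCent.act_eq_one_iff S.hK n).1 hn
    rw [← D.zp] at hmem
    obtain ⟨i, hi⟩ := (isOfFinOrder_of_finite D.x).mem_powers_iff_mem_zpowers.2 hmem
    refine Units.ext ?_
    rw [← hl', Units.val_one, ← h1, hav, hav]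
    congr 1
    refine Fintype.sum_equiv (Equiv.addRight (i : ZMod p)) _ _ fun a => ?_
    rw [← hi]
    show (ζ : G → ℂ) (D.x ^ a.val * D.x ^ i) = _
    rw [← D.xpow_eq i, D.xpow_add, OneMemClass.coe_one, mul_one, Equiv.coe_addRight]
  · rw [← hl', hav, Finset.sum_congr rfl fun a _ => IsClassFunction.apply_eq_of_isConj
      (IsCharacter.isClassFunction (isCharacter_irr ζ)) (isConj_mul n hn a), Finset.sum_const, Finset.card_univ,
      ZMod.card, nsmul_eq_mul, ← mul_assoc, inv_mul_cancel₀ hp0, one_mul]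

theorem agree_moving {ζ ζ' : IrrCharacter G} (hζ : ζ ∈ S.K.Y) (hζ' : ζ' ∈ S.K.Y) (n : nrm P) (hn : D.act n ≠ 1) :
    (ζ' : G → ℂ) (n : G) = (ζ : G → ℂ) (n : G) :=
  S.K.agree ζ' hζ' ζ hζ _ (S.regular_of_act_ne n hn)

/-- The number of exceptional constituents of `ζ * conj ζ` is at most `t`. -/
theorem numY_le {ζ : IrrCharacter G} (hζ : ζ ∈ S.K.Y) {m : IrrCharacter G → ℕ}
    (hexp : ∀ g, pr ζ ζ g = ∑ φ, (m φ : ℂ) * (φ : G → ℂ) g) : S.numY m ≤ t := by
  obtain ⟨l, hl1, hl⟩ := S.exists_lambda hζ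
  set L : IrrCharacter (nrm P) := ⟨_, isIrrCharacter_hom l⟩ with hL
  have hLv : ∀ n, (L : nrm P → ℂ) n = (l n : ℂ) := fun n => rfl
  have hN : (Nat.card (nrm P) : ℂ) ≠ 0 := Char.card_ne_zero
  have hnat : ∀ ψ : G → ℂ, IsCharacter G ψ → ∃ k : ℕ, ∑ n : nrm P, ψ (n : G) * conj (l n : ℂ)
      = (Nat.card (nrm P) : ℂ) * k := fun ψ hψ => by
    obtain ⟨k, hk⟩ := IsCharacter.classInner_nat (IsCharacter.restrict hψ (nrm P)) (isCharacter_irr L)
    refine ⟨k, ?_⟩
    rw [Cfsg.classInner, inv_mul_eq_iff_eq_mul₀ hN] at hk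
    rw [← hk]
  choose k hk using fun φ : IrrCharacter G => hnat _ (isCharacter_irr φ)
  have hnorm : ∀ n, (l n : ℂ) * conj (l n : ℂ) = 1 := fun n => by
    obtain ⟨j, hj, hj1⟩ := (isOfFinOrder_of_finite n).exists_pow_eq_one
    rw [Complex.mul_conj', Complex.norm_eq_one_of_pow_eq_one (n := j)
      (by rw [← Units.val_pow_eq_pow_val, ← map_pow, hj1, map_one, Units.val_one]) hj.ne']
    norm_num
  have hP : ∀ a : ZMod p, l ⟨D.x ^ a.val, Subgroup.le_normalizer (pow_mem D.x_mem _)⟩ = 1 := fun a =>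
    hl1 _ ((SelfCent.act_eq_one_iff S.hK _).2 (pow_mem D.x_mem _))
  have hkY : ∀ η ∈ S.K.Y, k η = 1 := by
    intro η hη
    have h : ∑ n : nrm P, (η : G → ℂ) (n : G) * conj (l n : ℂ) = (Nat.card (nrm P) : ℂ) * ((1 : ℕ) : ℂ) := by
      rw [S.sum_split, Finset.sum_congr rfl (s₁ := Finset.univ.filter fun n => ¬ D.act n = 1) (g := fun _ => (1 : ℂ))
        fun n hn => by rw [S.agree_moving hζ hη n (Finset.mem_filter.1 hn).2, hl n (Finset.mem_filter.1 hn).2, hnorm],
        Finset.sum_congr rfl (s₁ := Finset.univ) (g := fun a : ZMod p => (η : G → ℂ) (D.x ^ a.val)) fun a _ => by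
          rw [hP, Units.val_one, map_one, mul_one],
        ← Finset.add_sum_erase _ _ (Finset.mem_univ (0 : ZMod p)), ZMod.val_zero, pow_zero, S.sum_val hη, irr_one_eq,
        S.K.deg_Y η hη, S.deg, Finset.sum_const, nsmul_eq_mul, mul_one, S.card_nrm, Nat.cast_one, mul_one]
      have h1 : ((Finset.univ.filter fun n : nrm P => ¬ D.act n = 1).card : ℂ) + p = ((p * e : ℕ) : ℂ) := by
        exact_mod_cast S.card_moving
      have h2 : (y : ℂ) + e = p := by exact_mod_cast S.hy
      linear_combination h1 + h2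
    rw [hk η] at h
    exact_mod_cast mul_left_cancel₀ hN h
  obtain ⟨k₀, hk₀, hk₀1⟩ : ∃ k₀ : ℕ, ∑ n : nrm P, conj (l n : ℂ) = (Nat.card (nrm P) : ℂ) * k₀ ∧ k₀ ≤ 1 := by
    obtain ⟨k₀, h⟩ := hnat _ (isCharacter_irr (DegreeTools.oneChar G))
    simp only [DegreeTools.coe_oneChar, one_mul] at h
    refine ⟨k₀, h, ?_⟩
    have h1 := norm_sum_le (Finset.univ : Finset (nrm P)) fun n => conj (l n : ℂ)
    have h2 : ∀ n : nrm P, ‖conj (l n : ℂ)‖ = 1 := fun n => by
      obtain ⟨j, hj, hj1⟩ := (isOfFinOrder_of_finite n).exists_pow_eq_one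
      rw [Complex.norm_conj, Complex.norm_eq_one_of_pow_eq_one (n := j)
        (by rw [← Units.val_pow_eq_pow_val, ← map_pow, hj1, map_one, Units.val_one]) hj.ne']
    rw [h, norm_mul, Complex.norm_natCast, Complex.norm_natCast, Finset.sum_congr rfl fun n _ => h2 n,
      Finset.sum_const, Finset.card_univ, ← Nat.card_eq_fintype_card, nsmul_eq_mul, mul_one] at h1
    have h3 : Nat.card (nrm P) * k₀ ≤ Nat.card (nrm P) * 1 := by rw [mul_one]; exact_mod_cast h1
    exact Nat.le_of_mul_le_mul_left h3 Nat.card_pos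
  obtain ⟨k₁, hk₁⟩ := hnat _ (isCharacter_pr ζ ζ)
  have hval : (Nat.card (nrm P) : ℂ) * k₁ = (Nat.card (nrm P) : ℂ) * (((t : ℂ) - 1) + k₀) := by
    rw [← hk₁, S.sum_split, Finset.sum_congr rfl (s₁ := Finset.univ.filter fun n => ¬ D.act n = 1)
      (g := fun n => conj (l n : ℂ)) fun n hn => by rw [pr, hl n (Finset.mem_filter.1 hn).2, hnorm, one_mul],
      Finset.sum_congr rfl (s₁ := Finset.univ) (g := fun a : ZMod p => pr ζ ζ (D.x ^ a.val)) fun a _ => by
        rw [hP, Units.val_one, map_one, mul_one]]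
    have hsp := S.sum_split fun n => conj (l n : ℂ)
    rw [hk₀, Finset.sum_congr rfl (s₁ := Finset.univ) (g := fun _ : ZMod p => (1 : ℂ)) fun a _ => by
      rw [hP, Units.val_one, map_one], Finset.sum_const, Finset.card_univ, ZMod.card, nsmul_eq_mul, mul_one] at hsp
    have hnorms : ∑ a : ZMod p, pr ζ ζ (D.x ^ a.val) = (p : ℂ) * y := by
      rw [← Finset.add_sum_erase _ _ (Finset.mem_univ (0 : ZMod p)), ZMod.val_zero, pow_zero]
      simp only [pr]
      rw [S.sum_normSq hζ, irr_one_eq, S.K.deg_Y ζ hζ, S.deg, map_natCast,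
        show (p : ℂ) = (y : ℂ) + e by exact_mod_cast S.hy.symm]
      ring
    rw [hnorms, S.card_nrm] at *
    have ht : (y : ℂ) = (e : ℂ) * ((t : ℂ) - 1) + 1 := by
      have h := congrArg (fun n : ℕ => (n : ℂ)) S.y_eq
      simp only [Nat.cast_add, Nat.cast_mul, Nat.cast_one, Nat.cast_sub (show 1 ≤ t by have := S.two_t; omega)] at h
      exact h
    push_cast at hsp ⊢
    linear_combination -hsp + (p : ℂ) * ht
  have hk₁' : (k₁ : ℂ) + 1 = ((t + k₀ : ℕ) : ℂ) := by
    push_cast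
    linear_combination mul_left_cancel₀ hN hval
  have hk₁t : k₁ ≤ t := by
    have h : k₁ + 1 = t + k₀ := by exact_mod_cast hk₁'
    omega
  have hsum : k₁ = ∑ φ, m φ * k φ := by
    apply Nat.cast_injective (R := ℂ)
    refine mul_left_cancel₀ hN ?_
    rw [← hk₁, Finset.sum_congr rfl fun n _ => by rw [hexp, Finset.sum_mul], Finset.sum_comm, Nat.cast_sum,
      Finset.mul_sum]
    refine Finset.sum_congr rfl fun φ _ => ?_
    rw [Finset.sum_congr rfl fun (n : nrm P) _ => mul_assoc (m φ : ℂ) _ _, ← Finset.mul_sum, hk, Nat.cast_mul]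
    ring
  refine le_trans ?_ hk₁t
  rw [hsum, numY]
  refine le_trans (le_of_eq (Finset.sum_congr rfl fun η hη => ?_))
    (Finset.sum_le_sum_of_subset (Finset.subset_univ _))
  rw [hkY η hη, mul_one]

theorem conj_mem {ζ : IrrCharacter G} (hζ : ζ ∈ S.K.Y) : irrConj ζ ∈ S.K.Y := by
  have hs : ∑ a ∈ Finset.univ.erase (0 : ZMod p), (irrConj ζ : G → ℂ) (D.x ^ a.val) = (e : ℂ) := by
    simp only [irrConj_apply]
    rw [← map_sum, S.sum_val hζ, map_natCast]
  by_contra hY
  by_cases hX : irrConj ζ ∈ S.K.X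
  · rw [Finset.sum_congr rfl fun a ha => S.val_X hX (Finset.ne_of_mem_erase ha), Finset.sum_const,
      Finset.card_erase_of_mem (Finset.mem_univ _), Finset.card_univ, ZMod.card, ← S.het, nsmul_eq_mul] at hs
    have h : ((e * t : ℕ) : ℤ) * S.K.s (irrConj ζ) = ((e : ℕ) : ℤ) := by exact_mod_cast hs
    have h1 : e * 2 ≤ e * t := Nat.mul_le_mul_left _ S.two_t
    have := S.two_e
    rcases S.K.sgn_X _ hX with h2 | h2 <;> rw [h2] at h <;> omega
  · rw [Finset.sum_eq_zero fun a ha => S.val_out hX hY (Finset.ne_of_mem_erase ha)] at hs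
    have := S.two_e
    have h : (0 : ℕ) = e := by exact_mod_cast hs
    omega

/-- An involution inverting `P` on which the exceptional characters take the value one. -/
theorem exists_inverting (h4 : 4 ∣ e) {ζ : IrrCharacter G} (hζ : ζ ∈ S.K.Y) :
    ∃ τ : G, τ * τ = 1 ∧ τ * D.x * τ⁻¹ = D.x⁻¹ ∧ ∀ η ∈ S.K.Y, (η : G → ℂ) τ = 1 := by
  obtain ⟨g, hg⟩ := IsCyclic.exists_generator (α := D.act.range)
  have hord : orderOf g = e := by rw [orderOf_eq_card_of_forall_mem_zpowers hg, S.range]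
  obtain ⟨q, hq⟩ := h4
  obtain ⟨n, hn⟩ := (g ^ q).2
  have hord4 : orderOf (D.act n) = 4 := by
    have hq0 : q ≠ 0 := by rintro rfl; have := S.two_e; omega
    rw [hn, Subgroup.orderOf_coe, orderOf_pow' _ hq0, hord, hq, Nat.gcd_eq_right (dvd_mul_left _ _),
      Nat.mul_div_cancel _ (Nat.pos_of_ne_zero hq0)]
  have hsq : D.act n * D.act n = -1 := by
    have h4' : D.act n * D.act n * (D.act n * D.act n) = 1 := by
      have h := pow_orderOf_eq_one (D.act n)
      rw [hord4] at h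
      rw [← h]; simp only [pow_succ, pow_zero, one_mul, mul_assoc]
    have hne : D.act n * D.act n ≠ 1 := fun h => by
      have := orderOf_dvd_of_pow_eq_one (x := D.act n) (n := 2) (by rw [pow_two]; exact h)
      rw [hord4] at this
      omega
    have h' : ((D.act n * D.act n : (ZMod p)ˣ) : ZMod p) * ((D.act n * D.act n : (ZMod p)ˣ) : ZMod p) = 1 := by
      rw [← Units.val_mul, h4', Units.val_one]
    rcases mul_self_eq_one_iff.1 h' with h | h
    · exact absurd (Units.ext h) hne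
    · exact Units.ext h
  have hne1 : D.act n ≠ 1 := fun h => by rw [h, orderOf_one] at hord4; omega
  have hinv : ((n * n : nrm P) : G) * D.x * ((n * n : nrm P) : G)⁻¹ = D.x⁻¹ := by
    rw [D.conj_x, map_mul, hsq]
    refine eq_inv_of_mul_eq_one_left ?_
    conv_lhs => enter [2]; rw [← pow_one D.x, ← D.xpow_eq, Nat.cast_one]
    rw [D.xpow_add, Units.val_neg, Units.val_one, neg_add_cancel, ZMod.val_zero, pow_zero]
  refine ⟨((n * n : nrm P) : G), ?_, hinv, fun η hη => ?_⟩
  · have hmem : ((n * n * (n * n) : nrm P) : G) ∈ (P : Subgroup G) :=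
      (SelfCent.act_eq_one_iff S.hK _).1 (by rw [map_mul, map_mul, hsq, neg_mul_neg, mul_one])
    rw [← D.zp] at hmem
    obtain ⟨i, hi⟩ := (isOfFinOrder_of_finite D.x).mem_powers_iff_mem_zpowers.2 hmem
    set τ := ((n * n : nrm P) : G) with hτ
    have hi' : D.x ^ (i : ZMod p).val = τ * τ := by rw [D.xpow_eq]; exact hi
    have h1 : τ * (τ * τ) * τ⁻¹ = τ * τ := by group
    rw [← hi', ← conj_pow, hinv, inv_pow, inv_eq_iff_mul_eq_one, D.xpow_add] at h1
    have h2 : (i : ZMod p) + i = 0 := D.xpow_inj (h1.trans (by rw [ZMod.val_zero, pow_zero]))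
    have h3 : (2 : ZMod p) ≠ 0 := fun h => by
      have h' : ((2 : ℕ) : ZMod p) = 0 := by exact_mod_cast h
      have h2p := Nat.le_of_dvd two_pos ((ZMod.natCast_eq_zero_iff 2 p).1 h')
      have := S.two_e
      have := S.het
      have : e * 2 ≤ e * t := Nat.mul_le_mul_left _ S.two_t
      omega
    rw [← two_mul] at h2
    rw [← hi', (mul_eq_zero.1 h2).resolve_left h3, ZMod.val_zero, pow_zero]
  · obtain ⟨l, -, hl⟩ := S.exists_lambda hζ
    have hne2 : D.act (n * n) ≠ 1 := by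
      rw [map_mul, hsq]
      intro h
      have h' := congrArg Units.val h
      rw [Units.val_neg, Units.val_one, neg_eq_iff_add_eq_zero, one_add_one_eq_two] at h'
      have h2p := Nat.le_of_dvd two_pos ((ZMod.natCast_eq_zero_iff 2 p).1 (by exact_mod_cast h'))
      have := S.two_e
      have := S.het
      have : e * 2 ≤ e * t := Nat.mul_le_mul_left _ S.two_t
      omega
    rw [S.agree_moving hζ hη _ hne2, hl _ hne2, map_mul, Units.val_mul, ← hl _ hne1]
    have hreal : conj ((ζ : G → ℂ) (n : G)) = (ζ : G → ℂ) (n : G) := S.agree_moving hζ (S.conj_mem hζ) n hne1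
    have hn1 : ‖(ζ : G → ℂ) (n : G)‖ = 1 := by
      obtain ⟨j, hj, hj1⟩ := (isOfFinOrder_of_finite n).exists_pow_eq_one
      rw [hl _ hne1]
      exact Complex.norm_eq_one_of_pow_eq_one (n := j)
        (by rw [← Units.val_pow_eq_pow_val, ← map_pow, hj1, map_one, Units.val_one]) hj.ne'
    calc (ζ : G → ℂ) (n : G) * (ζ : G → ℂ) (n : G) = (ζ : G → ℂ) (n : G) * conj ((ζ : G → ℂ) (n : G)) := by rw [hreal]
      _ = 1 := by rw [Complex.mul_conj', hn1]; norm_num

end Setting

end CfsgLib.Char.DegPMinusE
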