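import Cfsg.Agent.Lib.Char.DegHalf.Central

/-!
# The principal block of a group with a Sylow subgroup of prime order

The block has `e` nonexceptional and `t` exceptional characters, where `e * t = p - 1`.
-/

set_option autoImplicit false

open scoped ComplexConjugate Classical

namespace CfsgLib.Char.DegPMinusE

open Cfsg CfsgLib CfsgLib.Blocks CfsgLib.Blocks.DefectOne CfsgLib.CharDeep.ExactP

universe u

variable {G : Type u} [Group G] [Fintype G] {p : ℕ} [hp : Fact p.Prime] {P : Sylow p G} {D : Frame P}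

/-- The characters that do not vanish on the sections of the principal block. -/
structure PBlk (D : Frame P) where
  X : Finset (IrrCharacter G)
  Y : Finset (IrrCharacter G)
  s : IrrCharacter G → ℤ
  A : ℤ
  y : ℕ
  disj : Disjoint X Y
  card_X : X.card = Nat.card D.act.range
  card_Y : Nat.card D.act.range * Y.card = p - 1
  sgn_X : ∀ χ ∈ X, s χ = 1 ∨ s χ = -1
  sgn_A : A = 1 ∨ A = -1
  one_mem : 2 ≤ Y.card → DegreeTools.oneChar G ∈ X ∧ s (DegreeTools.oneChar G) = 1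
  sec_X : ∀ χ ∈ X, ∀ a : ZMod p, a ≠ 0 → D.sec (θone D) χ a = s χ
  mod_X : ∀ χ ∈ X, (charDegree (χ : G → ℂ) : ℤ) ≡ s χ [ZMOD p]
  deg_Y : ∀ η ∈ Y, charDegree (η : G → ℂ) = y
  mod_Y : (y : ℤ) ≡ -A * Nat.card D.act.range [ZMOD p]
  sum_Y_sec : ∀ a : ZMod p, a ≠ 0 → ∑ η ∈ Y, D.sec (θone D) η a = A
  col_Y : ∀ a : ZMod p, a ≠ 0 →
    ∑ η ∈ Y, D.sec (θone D) η a * conj (D.sec (θone D) η a) = (p : ℂ) - Nat.card D.act.range
  sum_sec : ∀ η ∈ Y, ∑ a ∈ Finset.univ.erase (0 : ZMod p), D.sec (θone D) η a =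
    (Nat.card D.act.range : ℂ) * (A : ℂ)
  sum_sq : ∀ η ∈ Y, ∑ a ∈ Finset.univ.erase (0 : ZMod p), D.sec (θone D) η a * conj (D.sec (θone D) η a) =
    (Nat.card D.act.range : ℂ) * ((p : ℂ) - Nat.card D.act.range)
  val : ∀ χ : IrrCharacter G, χ ∈ X ∨ χ ∈ Y → ∀ a : ZMod p, a ≠ 0 → ∀ v : D.K0,
    (χ : G → ℂ) (D.el a v : G) = D.sec (θone D) χ a
  out : ∀ χ : IrrCharacter G, χ ∉ X → χ ∉ Y → ∀ a : ZMod p, a ≠ 0 → D.sec (θone D) χ a = 0
  agree : ∀ η ∈ Y, ∀ η' ∈ Y, ∀ g : G, ¬ p ∣ orderOf g → (η : G → ℂ) g = (η' : G → ℂ) g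
  rel : ∀ η ∈ Y, ∀ g : G, ¬ p ∣ orderOf g →
    ∑ χ ∈ X, (s χ : ℂ) * (χ : G → ℂ) g + (A : ℂ) * (η : G → ℂ) g = 0

set_option maxHeartbeats 1000000 in
theorem exists_pblk (D : Frame P) : Nonempty (PBlk D) := by
  obtain ⟨M, hM⟩ := exists_isPModular hp.out
  obtain ⟨B, hind⟩ := D.exists_induced hM (θone D)
  obtain ⟨T⟩ := exists_shape D hM hind
  have horb : D.orb (θone D) = {θone D} := Finset.eq_singleton_iff_unique_mem.2
    ⟨D.self_mem_orb _, fun θ' hθ' => eq_θone_of_mem_orb D hθ'⟩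
  have haut := card_autE_θone D
  have hμd : charDegree (θone D : D.K0 → ℂ) = 1 := fdeg_θone D
  set e := Nat.card D.act.range with he
  have hcY : e * T.Y.card = p - 1 := haut ▸ T.card_Y
  have h1reg : ¬ p ∣ orderOf (1 : G) := by rw [orderOf_one]; exact hp.out.not_dvd_one
  obtain ⟨η₀, hη₀⟩ : ∃ η, η ∈ T.Y := ⟨T.ζ 1, (T.mem_Y _).2 ⟨1, rfl⟩⟩
  have hval : ∀ χ ∈ B, ∀ k : ZMod p, k ≠ 0 → ∀ v : D.K0, (χ : G → ℂ) (D.el k v : G) = D.sec (θone D) χ k :=
    fun χ hχ k hk v => by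
      rw [D.apply_el_orb hM hind hχ hk, horb, Finset.sum_singleton, θone_apply, mul_one]
  have hout : ∀ χ : IrrCharacter G, χ ∉ T.X → χ ∉ T.Y → ∀ k : ZMod p, k ≠ 0 → D.sec (θone D) χ k = 0 :=
    fun χ h1 h2 k hk => D.sec_eq_zero_of_notMem hM hind (fun h => ((T.mem_iff χ).1 h).elim h1 h2) hk
  have hsumY : ∀ k : ZMod p, k ≠ 0 → ∑ η ∈ T.Y, D.sec (θone D) η k = (T.A : ℂ) := by
    intro k hk
    have h2 := D.sum_sec_mul_apply (θone D) hk h1reg
    rw [← Finset.sum_subset (Finset.subset_univ (T.X ∪ T.Y)) fun χ _ hχ => by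
        rw [hout χ (fun h => hχ (Finset.mem_union_left _ h)) (fun h => hχ (Finset.mem_union_right _ h)) k hk, zero_mul],
      Finset.sum_union T.disj,
      Finset.sum_congr rfl (s₁ := T.X) fun χ hχ => by rw [T.sec_X χ hχ k hk],
      Finset.sum_congr rfl (s₁ := T.Y) (g := fun η' => D.sec (θone D) η' k * (η₀ : G → ℂ) 1) fun η' hη' => by
        rw [T.agree η' hη' η₀ hη₀ 1 h1reg],
      ← Finset.sum_mul] at h2
    refine mul_right_cancel₀ (irr_one_ne_zero η₀) ?_
    linear_combination h2 - T.rel η₀ hη₀ 1 h1reg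
  have hautE : D.autE (θone D) = D.act.range :=
    Subgroup.eq_of_le_of_card_ge (Subgroup.map_le_range _ _) (by rw [haut, he])
  have hcol : ∀ a : ZMod p, a ≠ 0 →
      ∑ η ∈ T.Y, D.sec (θone D) η a * conj (D.sec (θone D) η a) = (p : ℂ) - (e : ℂ) := by
    intro a ha
    have h := D.sum_sec_mul_conj (θone D) (Units.mk0 a ha) (Units.mk0 a ha)
    simp only [Units.val_mk0, hautE] at h
    rw [if_pos (by simp), ← Finset.sum_subset (Finset.subset_univ (T.X ∪ T.Y)) fun χ _ hχ => by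
        rw [hout χ (fun h => hχ (Finset.mem_union_left _ h)) (fun h => hχ (Finset.mem_union_right _ h)) a ha, zero_mul],
      Finset.sum_union T.disj,
      Finset.sum_congr rfl (s₁ := T.X) (g := fun _ => (1 : ℂ)) fun χ hχ => by
        rw [T.sec_X χ hχ a ha, map_intCast]
        rcases T.sgn_X χ hχ with e | e <;> rw [e] <;> norm_num,
      Finset.sum_const, T.card_X, haut, nsmul_eq_mul, mul_one] at h
    linear_combination h
  have hshift : ∀ k, ∀ a : ZMod p, a ≠ 0 →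
      D.sec (θone D) (T.ζ k) a = D.sec (θone D) (T.ζ 1) ((k : ZMod p) * a) := by
    intro k a ha
    rw [T.sec_Y k a ha, T.sec_Y 1 _ (mul_ne_zero (Units.ne_zero k) ha)]
    congr 2
    refine Finset.sum_bij' (fun l _ => k⁻¹ * l) (fun l _ => k * l) (fun l hl => ?_) (fun l hl => ?_)
      (fun l _ => mul_inv_cancel_left k l) (fun l _ => inv_mul_cancel_left k l) fun l _ => ?_
    · simp only [Finset.mem_filter, Finset.mem_univ, true_and] at hl ⊢
      have h := (T.ζ_iff k l).1 hl.symm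
      exact ((T.ζ_iff 1 _).2 (by rwa [inv_one, one_mul])).symm
    · simp only [Finset.mem_filter, Finset.mem_univ, true_and] at hl ⊢
      have h := (T.ζ_iff 1 l).1 hl.symm
      rw [inv_one, one_mul] at h
      exact ((T.ζ_iff k _).2 (by rwa [inv_mul_cancel_left])).symm
    · congr 1
      rw [show ((k⁻¹ * l : (ZMod p)ˣ) : ZMod p) * ((k : ZMod p) * a) = ((k⁻¹ * l * k : (ZMod p)ˣ) : ZMod p) * a by
        simp only [Units.val_mul, mul_assoc], mul_comm (k⁻¹ * l) k, mul_inv_cancel_left]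
  have hav : ∀ (F : ℂ → ℂ) (c : ℂ), (∀ a : ZMod p, a ≠ 0 → ∑ η ∈ T.Y, F (D.sec (θone D) η a) = c) →
      ∀ η ∈ T.Y, ∑ a ∈ Finset.univ.erase (0 : ZMod p), F (D.sec (θone D) η a) = (e : ℂ) * c := by
    intro F c hc η hη
    have hsum1 : ∀ η ∈ T.Y, ∑ a ∈ Finset.univ.erase (0 : ZMod p), F (D.sec (θone D) η a)
        = ∑ a ∈ Finset.univ.erase (0 : ZMod p), F (D.sec (θone D) (T.ζ 1) a) := by
      intro η hη
      obtain ⟨k, rfl⟩ := (T.mem_Y η).1 hη
      refine Finset.sum_equiv (Units.mulLeft k) (fun a => ?_) fun a ha => ?_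
      · simp
      · rw [hshift k a (Finset.ne_of_mem_erase ha)]; rfl
    refine mul_left_cancel₀ (show (T.Y.card : ℂ) ≠ 0 from Nat.cast_ne_zero.2 (Finset.card_ne_zero.2 ⟨η, hη⟩)) ?_
    rw [hsum1 η hη, ← nsmul_eq_mul, ← Finset.sum_const, ← Finset.sum_congr rfl hsum1, Finset.sum_comm,
      Finset.sum_congr rfl fun k hk => hc k (Finset.ne_of_mem_erase hk), Finset.sum_const,
      Finset.card_erase_of_mem (Finset.mem_univ _), Finset.card_univ, ZMod.card, nsmul_eq_mul, ← hcY]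
    push_cast
    ring
  have hmodX : ∀ χ ∈ T.X, (charDegree (χ : G → ℂ) : ℤ) ≡ T.sgn χ [ZMOD p] := fun χ hχ => by
    have h := T.deg_X χ hχ
    rwa [horb, Finset.card_singleton, one_mul, hμd, Nat.cast_one, mul_one] at h
  have hdegY : ∀ η ∈ T.Y, charDegree (η : G → ℂ) = charDegree (η₀ : G → ℂ) := fun η hη => by
    have h := T.agree η hη η₀ hη₀ 1 h1reg
    simp only [irr_one_eq] at h
    exact_mod_cast h
  have hone : 2 ≤ T.Y.card → DegreeTools.oneChar G ∈ T.X ∧ T.sgn (DegreeTools.oneChar G) = 1 := by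
    intro h2
    have hsec : ∀ a : ZMod p, a ≠ 0 → D.sec (θone D) (DegreeTools.oneChar G) a = 1 := fun a ha => by
      rw [Frame.sec, Frame.comp, Cfsg.classInner]
      simp [θone_apply, DegreeTools.coe_oneChar]
    have hB : DegreeTools.oneChar G ∈ B := by
      by_contra h
      have h1 := D.sec_eq_zero_of_notMem hM hind h (one_ne_zero (α := ZMod p))
      rw [hsec 1 one_ne_zero] at h1
      exact one_ne_zero h1
    rcases (T.mem_iff _).1 hB with hX | hY
    · refine ⟨hX, ?_⟩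
      have h := T.sec_X _ hX 1 one_ne_zero
      rw [hsec 1 one_ne_zero] at h
      exact_mod_cast h.symm
    · exfalso
      have h := hav (fun z => z) (T.A : ℂ) hsumY _ hY
      rw [Finset.sum_congr rfl fun a ha => hsec a (Finset.ne_of_mem_erase ha), Finset.sum_const,
        Finset.card_erase_of_mem (Finset.mem_univ _), Finset.card_univ, ZMod.card, nsmul_eq_mul, mul_one] at h
      have h' : ((p - 1 : ℕ) : ℤ) = (e : ℤ) * T.A := by exact_mod_cast h
      have h3 : e * 2 ≤ e * T.Y.card := Nat.mul_le_mul_left _ h2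
      rcases T.sgn_A with hA | hA <;> rw [hA] at h' <;> have := Nat.card_pos (α := D.act.range) <;> omega
  refine ⟨⟨T.X, T.Y, T.sgn, T.A, charDegree (η₀ : G → ℂ), T.disj, T.card_X.trans haut, hcY, T.sgn_X, T.sgn_A,
    hone, T.sec_X, hmodX, hdegY, ?_, hsumY, hcol, hav (fun z => z) _ hsumY, hav (fun z => z * conj z) _ hcol,
    fun χ hχ => hval χ ((T.mem_iff χ).2 hχ), hout, T.agree, T.rel⟩⟩
  have h := T.deg_Y η₀ hη₀
  rwa [hμd, mul_one] at h

namespace PBlk

variable (K : PBlk D)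

theorem range_pos (K : PBlk D) : 0 < Nat.card D.act.range := Nat.card_pos

/-- An exceptional character of degree less than `p` is trivial on `K0`. -/
theorem apply_K0 (hA : K.A = 1) {η : IrrCharacter G} (hη : η ∈ K.Y) (hlt : K.y < p) (v : D.K0) :
    (η : G → ℂ) (v : G) = (η : G → ℂ) 1 := by
  have hsum := DegHalf.sum_sec_eq (θone D) η
  rw [K.sum_sec η hη, hA, Int.cast_one, mul_one] at hsum
  have h : ∑ k, mult D (θone D) η k + Nat.card D.act.range = p * mult D (θone D) η 0 := by exact_mod_cast hsum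
  have hle := sum_mult_le_deg D η (θone D)
  rw [K.deg_Y η hη] at hle
  have he := K.range_pos
  obtain ⟨m, hm⟩ : ∃ m, mult D (θone D) η 0 = m := ⟨_, rfl⟩
  rw [hm] at h
  have hm1 : m = 1 := by
    by_contra hne
    rcases Nat.lt_or_gt_of_ne hne with h0 | h2
    · obtain rfl : m = 0 := by omega
      omega
    · have : p * 2 ≤ p * m := Nat.mul_le_mul_left _ h2
      have hdvd : Nat.card D.act.range ≤ p - 1 := by
        have h1 := D.act.range.card_subgroup_dvd_card
        rw [Nat.card_eq_fintype_card (α := (ZMod p)ˣ), ZMod.card_units] at h1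
        exact Nat.le_of_dvd (by have := hp.out.two_le; omega) h1
      omega
  subst hm1
  rw [mul_one] at h
  have hmod := K.mod_Y
  rw [hA] at hmod
  have hy : ∑ k, mult D (θone D) η k = K.y := by
    obtain ⟨z, hz⟩ := Int.modEq_iff_dvd.1 hmod.symm
    rcases lt_trichotomy z 1 with h1 | h1 | h1
    · have : (p : ℤ) * z ≤ p * 0 := mul_le_mul_of_nonneg_left (by omega) (Nat.cast_nonneg _)
      omega
    · subst h1; omega
    · have : (p : ℤ) * 2 ≤ p * z := mul_le_mul_of_nonneg_left (by omega) (Nat.cast_nonneg _)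
      omega
  have hdeg := deg_eq' D η
  rw [K.deg_Y η hη, ← Finset.add_sum_erase _ _ (Finset.mem_univ (θone D)), fdeg_θone, one_mul, hy] at hdeg
  have hz : ∑ θ' ∈ Finset.univ.erase (θone D), fdeg D θ' * ∑ k, mult D θ' η k = 0 := by omega
  have hv := D.apply_mk η 0 v
  rw [D.el_zero, Finset.sum_eq_single (θone D) (fun θ' _ hne => by
      have h1 := Finset.sum_eq_zero_iff.1 hz θ' (Finset.mem_erase.2 ⟨hne, Finset.mem_univ _⟩)
      have h2 : ∑ k, mult D θ' η k = 0 := (Nat.mul_eq_zero.1 h1).resolve_left (fdeg_pos D θ').ne'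
      rw [sec_eq, Finset.sum_eq_zero fun k _ => by
        rw [Finset.sum_eq_zero_iff.1 h2 k (Finset.mem_univ _), Nat.cast_zero, zero_mul], zero_mul])
    (fun h => absurd (Finset.mem_univ _) h), θone_apply, mul_one, sec_eq] at hv
  rw [hv, irr_one_eq, K.deg_Y η hη, ← hy, Nat.cast_sum]
  simp only [mul_zero, AddChar.map_zero_eq_one, mul_one]

end PBlk

end CfsgLib.Char.DegPMinusE
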