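import Cfsg.Agent.Lib.Char.DegPMinusE.Principal
import Cfsg.Agent.Lib.Char.DegHalf.Split

/-!
# An exceptional character of degree `p - e`: products of two exceptional characters

`P` is self-centralizing; every product of an exceptional character with the conjugate of another
is described on `P` by two integers, the signed number of nonexceptional constituents and the
number of exceptional ones.
-/

set_option autoImplicit false

open scoped ComplexConjugate Classical

namespace CfsgLib.Char.DegPMinusE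

open Cfsg CfsgLib CfsgLib.Blocks CfsgLib.Blocks.DefectOne CfsgLib.CharDeep.ExactP
open CfsgLib.Char.DegHalf (pr isCharacter_pr classInner_pr_one)

universe u

variable {G : Type u} [Group G] [Fintype G] {p : ℕ} [hp : Fact p.Prime] {P : Sylow p G} {D : Frame P}
  {e t y : ℕ}

/-- The data. -/
structure Setting (D : Frame P) (e t y : ℕ) where
  K : PBlk D
  hK : D.K0 = ⊥
  range : Nat.card D.act.range = e
  het : e * t = p - 1
  hy : y + e = p
  two_e : 2 ≤ e
  two_t : 2 ≤ t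
  hA : K.A = 1
  deg : K.y = y

namespace Setting

variable (S : Setting D e t y)
include S

theorem card_Y : S.K.Y.card = t := by
  have h := S.K.card_Y
  rw [S.range, ← S.het] at h
  exact Nat.eq_of_mul_eq_mul_left (by have := S.two_e; omega) h

theorem y_eq : y = e * (t - 1) + 1 := by
  obtain ⟨s, hs⟩ : ∃ s, t = s + 1 := ⟨t - 1, by have := S.two_t; omega⟩
  have h := S.het
  rw [hs, mul_add, mul_one] at h
  rw [hs, Nat.add_sub_cancel]
  have := S.hy
  have := hp.out.one_le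
  omega

theorem one_mem : DegreeTools.oneChar G ∈ S.K.X ∧ S.K.s (DegreeTools.oneChar G) = 1 :=
  S.K.one_mem (by rw [S.card_Y]; exact S.two_t)

theorem sec_eq_apply (φ : IrrCharacter G) (a : ZMod p) : D.sec (θone D) φ a = (φ : G → ℂ) (D.x ^ a.val) := by
  rw [Frame.sec, Frame.comp, Cfsg.classInner, Finset.sum_congr rfl (g := fun _ => (φ : G → ℂ) (D.x ^ a.val))
    fun v _ => ?_, Finset.sum_const, Finset.card_univ, ← Nat.card_eq_fintype_card, nsmul_eq_mul, ← mul_assoc,
    inv_mul_cancel₀ Char.card_ne_zero, one_mul]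
  have hv : v = 1 := Subtype.ext (Subgroup.mem_bot.1 (S.hK ▸ v.2))
  subst hv
  rw [θone_apply, map_one, mul_one, D.coe_el, OneMemClass.coe_one, mul_one]

theorem val_X {χ : IrrCharacter G} (hχ : χ ∈ S.K.X) {a : ZMod p} (ha : a ≠ 0) :
    (χ : G → ℂ) (D.x ^ a.val) = (S.K.s χ : ℂ) := by
  rw [← S.sec_eq_apply, S.K.sec_X χ hχ a ha]

theorem val_out {χ : IrrCharacter G} (hX : χ ∉ S.K.X) (hY : χ ∉ S.K.Y) {a : ZMod p} (ha : a ≠ 0) :
    (χ : G → ℂ) (D.x ^ a.val) = 0 := by
  rw [← S.sec_eq_apply, S.K.out χ hX hY a ha]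

theorem sum_Y {a : ZMod p} (ha : a ≠ 0) : ∑ η ∈ S.K.Y, (η : G → ℂ) (D.x ^ a.val) = 1 := by
  have h := S.K.sum_Y_sec a ha
  simp only [S.sec_eq_apply, S.hA, Int.cast_one] at h
  exact h

theorem col_Y {a : ZMod p} (ha : a ≠ 0) :
    ∑ η ∈ S.K.Y, (η : G → ℂ) (D.x ^ a.val) * conj ((η : G → ℂ) (D.x ^ a.val)) = (y : ℂ) := by
  have h := S.K.col_Y a ha
  simp only [S.sec_eq_apply, S.range] at h
  have hy : (y : ℂ) + e = p := by exact_mod_cast S.hy
  linear_combination h - hy

theorem sum_val {η : IrrCharacter G} (hη : η ∈ S.K.Y) :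
    ∑ a ∈ Finset.univ.erase (0 : ZMod p), (η : G → ℂ) (D.x ^ a.val) = (e : ℂ) := by
  have h := S.K.sum_sec η hη
  simp only [S.sec_eq_apply, S.range, S.hA, Int.cast_one, mul_one] at h
  exact h

theorem sum_normSq {η : IrrCharacter G} (hη : η ∈ S.K.Y) :
    ∑ a ∈ Finset.univ.erase (0 : ZMod p), (η : G → ℂ) (D.x ^ a.val) * conj ((η : G → ℂ) (D.x ^ a.val))
      = (e : ℂ) * (y : ℂ) := by
  have h := S.K.sum_sq η hη
  simp only [S.sec_eq_apply, S.range] at h
  have hy : (y : ℂ) + e = p := by exact_mod_cast S.hy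
  linear_combination h - (e : ℂ) * hy

theorem exists_conj_xpow {g : G} (hg : p ∣ orderOf g) :
    ∃ u : G, ∃ a : ZMod p, a ≠ 0 ∧ u * g * u⁻¹ = D.x ^ a.val := by
  obtain ⟨u, a, v, ha, hu⟩ := D.exists_conj_el hg
  exact ⟨u, a, ha, by rw [hu, D.coe_el, show (v : G) = 1 from Subgroup.mem_bot.1 (S.hK ▸ v.2), mul_one]⟩

/-- A function vanishing on the regular elements against one constant on the singular ones. -/
theorem classInner_of_sing {F H : G → ℂ} (hreg : ∀ g : G, ¬ p ∣ orderOf g → F g = 0)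
    (hH : IsClassFunction G H) (c : ℂ) (hc : ∀ a : ZMod p, a ≠ 0 → H (D.x ^ a.val) = c) :
    classInner F H = conj c * classInner F (fun _ => 1) := by
  rw [Cfsg.classInner, Cfsg.classInner, mul_left_comm]
  congr 1
  rw [Finset.mul_sum]
  refine Finset.sum_congr rfl fun g _ => ?_
  by_cases hg : p ∣ orderOf g
  · obtain ⟨u, a, ha, hu⟩ := S.exists_conj_xpow hg
    rw [show H g = H (D.x ^ a.val) by
      rw [← hu]; exact IsClassFunction.apply_eq_of_isConj hH (isConj_iff.2 ⟨u, rfl⟩), hc a ha, map_one, mul_one, mul_comm]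
  · rw [hreg g hg, zero_mul, zero_mul, mul_zero]

/-- The signed number of nonexceptional constituents. -/
noncomputable def sgnX (m : IrrCharacter G → ℕ) : ℤ := ∑ χ ∈ S.K.X, S.K.s χ * (m χ : ℤ)

/-- The number of exceptional constituents. -/
noncomputable def numY (m : IrrCharacter G → ℕ) : ℕ := ∑ η ∈ S.K.Y, m η

/-- A character on the nontrivial elements of `P`. -/
theorem apply_xpow {ψ : G → ℂ} {m : IrrCharacter G → ℕ} (hexp : ∀ g, ψ g = ∑ φ, (m φ : ℂ) * (φ : G → ℂ) g)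
    {a : ZMod p} (ha : a ≠ 0) :
    ψ (D.x ^ a.val) = (S.sgnX m : ℂ) + ∑ η ∈ S.K.Y, (m η : ℂ) * (η : G → ℂ) (D.x ^ a.val) := by
  rw [hexp, ← Finset.sum_subset (Finset.subset_univ (S.K.X ∪ S.K.Y)) fun χ _ hχ => by
      rw [S.val_out (fun h => hχ (Finset.mem_union_left _ h)) (fun h => hχ (Finset.mem_union_right _ h)) ha, mul_zero],
    Finset.sum_union S.K.disj, sgnX, Int.cast_sum]
  congr 1
  exact Finset.sum_congr rfl fun χ hχ => by rw [S.val_X hχ ha]; push_cast; ring

/-- The sum over the nontrivial elements of `P`. -/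
theorem sum_apply {ψ : G → ℂ} {m : IrrCharacter G → ℕ} (hexp : ∀ g, ψ g = ∑ φ, (m φ : ℂ) * (φ : G → ℂ) g) :
    ∑ a ∈ Finset.univ.erase (0 : ZMod p), ψ (D.x ^ a.val)
      = (e : ℂ) * ((t : ℂ) * (S.sgnX m : ℂ) + (S.numY m : ℂ)) := by
  rw [Finset.sum_congr rfl fun a ha => S.apply_xpow hexp (Finset.ne_of_mem_erase ha), Finset.sum_add_distrib,
    Finset.sum_const, Finset.card_erase_of_mem (Finset.mem_univ _), Finset.card_univ, ZMod.card, ← S.het,
    Finset.sum_comm, numY, Nat.cast_sum, mul_add, Finset.mul_sum, nsmul_eq_mul]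
  congr 1
  · push_cast; ring
  · exact Finset.sum_congr rfl fun η hη => by rw [← Finset.mul_sum, S.sum_val hη, mul_comm]

/-- The multiplicities in `ζ * conj ζ` and in `ζ * conj ζ'`. -/
theorem exists_products {ζ ζ' : IrrCharacter G} (hζ : ζ ∈ S.K.Y) (hζ' : ζ' ∈ S.K.Y) (hne : ζ ≠ ζ') :
    ∃ m m' : IrrCharacter G → ℕ,
      (∀ φ : IrrCharacter G, classInner (pr ζ ζ) (φ : G → ℂ) = m φ) ∧
      (∀ g, pr ζ ζ g = ∑ φ, (m φ : ℂ) * (φ : G → ℂ) g) ∧
      (∀ φ : IrrCharacter G, classInner (pr ζ ζ') (φ : G → ℂ) = m' φ) ∧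
      (∀ g, pr ζ ζ' g = ∑ φ, (m' φ : ℂ) * (φ : G → ℂ) g) ∧
      (t : ℤ) * S.sgnX m + S.numY m = y ∧
      (∀ χ ∈ S.K.X, (m χ : ℤ) = m' χ + S.K.s χ) ∧
      S.sgnX m' = S.sgnX m - e ∧ S.numY m = S.numY m' + 1 := by
  obtain ⟨m, hm, hexp⟩ := IsCharacter.exists_multiplicity (isCharacter_pr ζ ζ)
  obtain ⟨m', hm', hexp'⟩ := IsCharacter.exists_multiplicity (isCharacter_pr ζ ζ')
  set F : G → ℂ := pr ζ ζ - pr ζ ζ' with hF
  have hreg : ∀ g : G, ¬ p ∣ orderOf g → F g = 0 := fun g hg => by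
    simp only [hF, Pi.sub_apply, pr, S.K.agree ζ hζ ζ' hζ' g hg, sub_self]
  have h1 : classInner F (fun _ => 1) = 1 := by
    have h := classInner_pr_one ζ ζ
    have h' := classInner_pr_one ζ ζ'
    rw [classInner_irr_self ζ.2] at h
    rw [classInner_irr_ne ζ.2 ζ'.2 (fun e => hne (Subtype.ext e))] at h'
    rw [show (fun _ : G => (1 : ℂ)) = (DegreeTools.oneChar G : G → ℂ) from rfl, hF, classInner_sub_left, h, h', sub_zero]
  have hX : ∀ χ ∈ S.K.X, (m χ : ℤ) = m' χ + S.K.s χ := fun χ hχ => by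
    have h := S.classInner_of_sing hreg (IsCharacter.isClassFunction (isCharacter_irr χ)) _
      fun a ha => S.val_X hχ ha
    rw [h1, map_intCast, mul_one, hF, classInner_sub_left, hm, hm'] at h
    have h' : ((m χ : ℤ) : ℂ) = ((m' χ + S.K.s χ : ℤ) : ℂ) := by push_cast; linear_combination h
    exact_mod_cast h'
  have hY : S.numY m = S.numY m' + 1 := by
    have h := S.classInner_of_sing hreg (H := fun g => ∑ η ∈ S.K.Y, (η : G → ℂ) g)
      (fun g h => Finset.sum_congr rfl fun η _ => IsCharacter.isClassFunction (isCharacter_irr η) g h) 1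
      fun a ha => S.sum_Y ha
    have hlin : classInner F (fun g => ∑ η ∈ S.K.Y, (η : G → ℂ) g) = ∑ η ∈ S.K.Y, classInner F (η : G → ℂ) := by
      simp only [Cfsg.classInner, map_sum, Finset.mul_sum]
      rw [Finset.sum_comm]
    rw [h1, map_one, mul_one, hlin] at h
    simp only [hF, classInner_sub_left, hm, hm', Finset.sum_sub_distrib] at h
    rw [numY, numY]
    have h' : ((∑ η ∈ S.K.Y, m η : ℕ) : ℂ) = ((∑ η ∈ S.K.Y, m' η + 1 : ℕ) : ℂ) := by
      push_cast; linear_combination h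
    exact_mod_cast h'
  refine ⟨m, m', hm, hexp, hm', hexp', ?_, hX, ?_, hY⟩
  · have h := S.sum_apply hexp
    simp only [pr] at h
    rw [S.sum_normSq hζ] at h
    have he : (e : ℂ) ≠ 0 := Nat.cast_ne_zero.2 (by have := S.two_e; omega)
    have h' : (((t : ℤ) * S.sgnX m + S.numY m : ℤ) : ℂ) = ((y : ℤ) : ℂ) := by
      push_cast
      exact (mul_left_cancel₀ he h).symm
    exact_mod_cast h'
  · rw [sgnX, sgnX, eq_sub_iff_add_eq, show (e : ℤ) = ((S.K.X.card : ℕ) : ℤ) by rw [S.K.card_X, S.range],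
      Finset.card_eq_sum_ones, Nat.cast_sum,
      ← Finset.sum_add_distrib]
    refine Finset.sum_congr rfl fun χ hχ => ?_
    rw [hX χ hχ, mul_add]
    rcases S.K.sgn_X χ hχ with h | h <;> rw [h] <;> norm_num

end Setting

end CfsgLib.Char.DegPMinusE
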