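import Cfsg.Agent.Lib.Char.DegPMinusE.Alternating
import Cfsg.Agent.Lib.Blocks.Idempotent

/-!
# An exceptional character of degree `p - e` with two exceptional characters: the Sylow 2-subgroup

In a simple group in which the other nonprincipal characters of the block have even degree, the
nonexceptional characters of degree `p - 1` lie outside the principal 2-block; so the order of a
Sylow 2-subgroup is at most the square of `p - e`.
-/

set_option autoImplicit false

open scoped ComplexConjugate Classical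

namespace CfsgLib.Char.DegPMinusE

open Cfsg CfsgLib CfsgLib.Blocks CfsgLib.Blocks.DefectOne CfsgLib.CharDeep.ExactP
open CfsgLib.Char.DegHalf (pr isCharacter_pr classInner_pr_one sum_le_deg le_of_modEq)

universe u

variable {G : Type u} [Group G] [Fintype G] {p : ℕ} [hp : Fact p.Prime] {P : Sylow p G} {D : Frame P}
  {e t y : ℕ}

omit hp in
/-- A nonlinear character of a simple group is faithful. -/
theorem faithful_of_simple [IsSimpleGroup G] (χ : IrrCharacter G) (hd : charDegree (χ : G → ℂ) ≠ 1) (g : G)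
    (hg : (χ : G → ℂ) g = (χ : G → ℂ) 1) : g = 1 := by
  have hn := Char.charKer_normal (Char.isCharacter_irr χ)
  have hm := (Char.mem_charKer (Char.isCharacter_irr χ)).2 hg
  rcases hn.eq_bot_or_eq_top with h | h
  · exact Subgroup.mem_bot.1 (h ▸ hm)
  · exfalso
    have hall : ∀ g, (χ : G → ℂ) g = (χ : G → ℂ) 1 := fun g =>
      (Char.mem_charKer (Char.isCharacter_irr χ)).1 (h ▸ Subgroup.mem_top g)
    have h1 := Char.classInner_irr_self χ.2
    rw [Cfsg.classInner, inv_mul_eq_iff_eq_mul₀ Char.card_ne_zero, mul_one,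
      Finset.sum_congr rfl (g := fun _ => (χ : G → ℂ) 1 * conj ((χ : G → ℂ) 1)) fun g _ => by rw [hall g],
      Finset.sum_const, Finset.card_univ, ← Nat.card_eq_fintype_card, nsmul_eq_mul, irr_one_eq, map_natCast] at h1
    have h2 : Nat.card G * (charDegree (χ : G → ℂ) * charDegree (χ : G → ℂ)) = Nat.card G * 1 := by
      rw [mul_one]; exact_mod_cast h1
    exact hd (Nat.eq_one_of_mul_eq_one_left (Nat.eq_of_mul_eq_mul_left Nat.card_pos h2))

omit hp in
/-- The value at an involution is an integer. -/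
theorem exists_int_involution {φ : G → ℂ} (hφ : IsCharacter G φ) {z : G} (hz : z * z = 1) : ∃ c : ℤ, φ z = c := by
  set K := Subgroup.zpowers z
  set z' : K := ⟨z, Subgroup.mem_zpowers z⟩
  have hcom : ∀ a b : K, a * b = b * a := fun a b => by
    obtain ⟨i, hi⟩ := Subgroup.mem_zpowers_iff.1 a.2
    obtain ⟨j, hj⟩ := Subgroup.mem_zpowers_iff.1 b.2
    exact Subtype.ext (by simp only [Subgroup.coe_mul, ← hi, ← hj, ← zpow_add, add_comm])
  obtain ⟨m, -, hexp⟩ := IsCharacter.exists_multiplicity (IsCharacter.restrict hφ K)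
  have hv : ∀ μ : IrrCharacter K, ∃ c : ℤ, (μ : K → ℂ) z' = c := fun μ => by
    obtain ⟨f, hf⟩ := exists_hom_of_apply_one_eq_one (isCharacter_irr μ) (apply_one_eq_one_of_comm hcom μ.2)
    have h : (μ : K → ℂ) z' * (μ : K → ℂ) z' = 1 := by
      simp only [hf]
      rw [← Units.val_mul, ← map_mul, show z' * z' = 1 from Subtype.ext hz, map_one, Units.val_one]
    rcases mul_self_eq_one_iff.1 h with h | h
    · exact ⟨1, by rw [h, Int.cast_one]⟩
    · exact ⟨-1, by rw [h, Int.cast_neg, Int.cast_one]⟩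
  choose c hc using hv
  refine ⟨∑ μ, (m μ : ℤ) * c μ, ?_⟩
  have h := hexp z'
  simp only [hc] at h
  push_cast
  exact h

namespace Setting

variable (S : Setting D e 2 y)
include S

theorem two_e_succ : 2 * e + 1 = p ∧ y = e + 1 := by
  have := S.het
  have := S.hy
  have := S.two_e
  constructor <;> omega

/-- Where the nonexceptional characters occur. -/
theorem constituents {ζ ζ' : IrrCharacter G} (hζ : ζ ∈ S.K.Y) (hζ' : ζ' ∈ S.K.Y) (hne : ζ ≠ ζ') (ho : Odd y) :
    ∃ η ∈ S.K.Y, classInner (pr ζ ζ) (η : G → ℂ) ≠ 0 ∧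
      (∀ χ ∈ S.K.X, S.K.s χ = 1 → classInner (pr ζ ζ) (χ : G → ℂ) ≠ 0) ∧
      ∀ χ ∈ S.K.X, S.K.s χ = -1 → classInner (pr ζ ζ') (χ : G → ℂ) ≠ 0 := by
  obtain ⟨m, m', hm, -, hm', -, hrel, hX, -, -⟩ := S.exists_products hζ hζ' hne
  obtain ⟨η, hη, hne'⟩ : ∃ η ∈ S.K.Y, m η ≠ 0 := by
    by_contra h
    push Not at h
    rw [numY, Finset.sum_eq_zero h, Nat.cast_zero, add_zero] at hrel
    obtain ⟨k, rfl⟩ := ho
    push_cast at hrel
    omega
  refine ⟨η, hη, by rw [hm]; exact Nat.cast_ne_zero.2 hne', fun χ hχ hs => ?_, fun χ hχ hs => ?_⟩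
  · rw [hm]
    refine Nat.cast_ne_zero.2 fun h => ?_
    have h' := hX χ hχ
    rw [hs, h] at h'
    push_cast at h'
    omega
  · rw [hm']
    refine Nat.cast_ne_zero.2 fun h => ?_
    have h' := hX χ hχ
    rw [hs, h] at h'
    push_cast at h'

/-- The degrees of the nonexceptional characters. -/
theorem degrees (ho : Odd y) (heven : ∀ χ ∈ S.K.X, χ ≠ DegreeTools.oneChar G → 2 ∣ charDegree (χ : G → ℂ)) :
    (∑ χ ∈ S.K.X.filter (fun χ => S.K.s χ = 1), charDegree (χ : G → ℂ) + y ≤ y * y) ∧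
      ∀ χ ∈ S.K.X, S.K.s χ = -1 → charDegree (χ : G → ℂ) = p - 1 := by
  obtain ⟨hpe, hye⟩ := S.two_e_succ
  obtain ⟨ζ, ζ', hne, hYeq⟩ := Finset.card_eq_two.1 S.card_Y
  have hζ : ζ ∈ S.K.Y := by rw [hYeq]; exact Finset.mem_insert_self _ _
  have hζ' : ζ' ∈ S.K.Y := by rw [hYeq]; exact Finset.mem_insert_of_mem (Finset.mem_singleton_self _)
  obtain ⟨η, hη, hηm, hplus, hminus⟩ := S.constituents hζ hζ' hne ho
  have hdegpr : ∀ ξ ∈ S.K.Y, pr ζ ξ 1 = ((y * y : ℕ) : ℂ) := fun ξ hξ => by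
    simp only [pr, irr_one_eq, S.K.deg_Y ζ hζ, S.K.deg_Y ξ hξ, S.deg, map_natCast]
    push_cast
    ring
  set plus := S.K.X.filter (fun χ => S.K.s χ = 1) with hplusdef
  set minus := S.K.X.filter (fun χ => S.K.s χ = -1) with hminusdef
  have hηp : η ∉ plus := fun h => Finset.disjoint_left.1 S.K.disj (Finset.mem_filter.1 h).1 hη
  have hb1 := sum_le_deg (isCharacter_pr ζ ζ) (hdegpr ζ hζ) (insert η plus) (fun χ => charDegree (χ : G → ℂ))
    (fun χ hχ => by
      rcases Finset.mem_insert.1 hχ with rfl | h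
      · exact hηm
      · exact hplus χ (Finset.mem_filter.1 h).1 (Finset.mem_filter.1 h).2)
    fun _ _ => le_rfl
  rw [Finset.sum_insert hηp, S.K.deg_Y η hη, S.deg] at hb1
  refine ⟨by omega, ?_⟩
  obtain ⟨hone, hones⟩ := S.one_mem
  have h1mem : DegreeTools.oneChar G ∈ plus := Finset.mem_filter.2 ⟨hone, hones⟩
  have hplow : ∀ χ ∈ plus.erase (DegreeTools.oneChar G), p + 1 ≤ charDegree (χ : G → ℂ) := by
    intro χ hχ
    obtain ⟨hne1, hmem⟩ := Finset.mem_erase.1 hχ
    obtain ⟨hX, hs⟩ := Finset.mem_filter.1 hmem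
    by_contra hc
    have hmod := S.K.mod_X χ hX
    rw [hs] at hmod
    have h1 := le_of_modEq (p := p) (L := 1) (by exact_mod_cast hmod) (charDegree_pos χ) (by omega)
    have := heven χ hX hne1
    rw [h1] at this
    omega
  have hmlow : ∀ χ ∈ minus, p - 1 ≤ charDegree (χ : G → ℂ) ∧
      (charDegree (χ : G → ℂ) ≠ p - 1 → p - 1 + 2 * p ≤ charDegree (χ : G → ℂ)) := by
    intro χ hχ
    obtain ⟨hX, hs⟩ := Finset.mem_filter.1 hχ
    have hne1 : χ ≠ DegreeTools.oneChar G := fun h => by rw [h, hones] at hs; omega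
    obtain ⟨q, hq⟩ := heven χ hX hne1
    have hmod := S.K.mod_X χ hX
    rw [hs] at hmod
    obtain ⟨k, hk⟩ := Int.modEq_iff_dvd.1 hmod.symm
    have hpos := charDegree_pos χ
    rcases lt_trichotomy k 1 with h | h | h
    · have : (p : ℤ) * k ≤ p * 0 := mul_le_mul_of_nonneg_left (by omega) (Nat.cast_nonneg _)
      omega
    · subst h; omega
    · rcases eq_or_lt_of_le (show 2 ≤ k by omega) with h2 | h2
      · subst h2; omega
      · have : (p : ℤ) * 3 ≤ p * k := mul_le_mul_of_nonneg_left (by omega) (Nat.cast_nonneg _)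
        constructor <;> omega
  intro χ hχ hs
  by_contra hbig
  have hχm : χ ∈ minus := Finset.mem_filter.2 ⟨hχ, hs⟩
  have hb2 := sum_le_deg (isCharacter_pr ζ ζ') (hdegpr ζ' hζ') minus (fun χ => charDegree (χ : G → ℂ))
    (fun χ hχ => hminus χ (Finset.mem_filter.1 hχ).1 (Finset.mem_filter.1 hχ).2) fun _ _ => le_rfl
  have hcard : plus.card + minus.card = e := by
    have hm : minus = S.K.X.filter fun χ => ¬ S.K.s χ = 1 :=
      Finset.filter_congr fun φ hφ => by rcases S.K.sgn_X φ hφ with h | h <;> simp [h]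
    rw [hm, hplusdef, Finset.card_filter_add_card_filter_not, S.K.card_X, S.range]
  have h3 : (plus.erase (DegreeTools.oneChar G)).card * (p + 1) + 1 ≤ ∑ χ ∈ plus, charDegree (χ : G → ℂ) := by
    rw [← Finset.add_sum_erase _ _ h1mem, DegreeTools.deg_oneChar]
    have h := Finset.card_nsmul_le_sum (plus.erase (DegreeTools.oneChar G)) (fun χ => charDegree (χ : G → ℂ)) (p + 1) hplow
    rw [smul_eq_mul] at h
    omega
  have h4 : minus.card * (p - 1) + 2 * p ≤ ∑ χ ∈ minus, charDegree (χ : G → ℂ) := by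
    rw [← Finset.add_sum_erase _ _ hχm]
    have h := Finset.card_nsmul_le_sum (minus.erase χ) (fun χ => charDegree (χ : G → ℂ)) (p - 1)
      fun ξ hξ => (hmlow ξ (Finset.mem_of_mem_erase hξ)).1
    rw [smul_eq_mul, Finset.card_erase_of_mem hχm] at h
    have h5 := (hmlow χ hχm).2 hbig
    have h6 : minus.card * (p - 1) = (minus.card - 1) * (p - 1) + (p - 1) := by
      rw [← Nat.succ_mul, Nat.succ_eq_add_one, Nat.sub_add_cancel (Finset.card_pos.2 ⟨χ, hχm⟩)]
    omega
  rw [Finset.card_erase_of_mem h1mem] at h3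
  obtain ⟨f, hf⟩ : ∃ f, plus.card = f + 1 := ⟨plus.card - 1, by have := Finset.card_pos.2 ⟨_, h1mem⟩; omega⟩
  rw [hf, Nat.add_sub_cancel, show p + 1 = 2 * e + 2 by omega] at h3
  rw [show p - 1 = 2 * e by omega] at h4
  obtain ⟨k, hk⟩ : Even e := by
    obtain ⟨j, hj⟩ := ho
    exact ⟨j, by omega⟩
  have hfk : f + 1 ≤ k := by
    by_contra hc
    have h6 : k * (2 * e + 2) ≤ f * (2 * e + 2) := Nat.mul_le_mul_right _ (by omega)
    subst hye hk
    nlinarith
  have hmk : k ≤ minus.card := by omega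
  have h7 : k * (2 * e) ≤ minus.card * (2 * e) := Nat.mul_le_mul_right _ hmk
  subst hye hk
  nlinarith

theorem eq_sameBlock {M : Ideal AlgInt} (hM : IsPModular 2 M) {b : ℕ} (hb : b ≠ 0)
    (hcard : Nat.card G = p * 2 ^ b * y) {η η' : IrrCharacter G} (hη : η ∈ S.K.Y) (hη' : η' ∈ S.K.Y) :
    SameBlock M (η : G → ℂ) (η' : G → ℂ) := by
  intro g
  by_cases hg : p ∣ orderOf g
  swap
  · rw [centralChar, centralChar, S.K.agree η hη η' hη' g hg, irr_one_eq, irr_one_eq, S.K.deg_Y η hη, S.K.deg_Y η' hη',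
      sub_self]
    exact LI.zero hM
  obtain ⟨u, a, ha, hu⟩ := S.exists_conj_xpow hg
  have hcent : Nat.card (Subgroup.centralizer ({g} : Set G)) = p := by
    have h : Subgroup.centralizer ({D.x ^ a.val} : Set G)
        = (Subgroup.centralizer ({g} : Set G)).map (MulAut.conj u).toMonoidHom := by
      ext c
      rw [Subgroup.mem_map_equiv, Subgroup.mem_centralizer_singleton_iff, Subgroup.mem_centralizer_singleton_iff, ← hu,
        MulAut.conj_symm_apply]
      constructor <;> intro h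
      · calc u⁻¹ * c * u * g = u⁻¹ * (c * (u * g * u⁻¹)) * u := by group
          _ = u⁻¹ * ((u * g * u⁻¹) * c) * u := by rw [h]
          _ = g * (u⁻¹ * c * u) := by group
      · calc c * (u * g * u⁻¹) = u * (u⁻¹ * c * u * g) * u⁻¹ := by group
          _ = u * (g * (u⁻¹ * c * u)) * u⁻¹ := by rw [h]
          _ = u * g * u⁻¹ * c := by group
    rw [← D.cent_eq_singleton ha] at h
    rw [Nat.card_congr (Subgroup.equivMapOfInjective _ (MulAut.conj u).toMonoidHom (MulEquiv.injective _)).toEquiv,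
      ← h, D.card_cent, S.hK, Subgroup.card_bot, mul_one]
  have hidx : (Subgroup.centralizer ({g} : Set G)).index = 2 ^ b * y := by
    have h := Subgroup.card_mul_index (Subgroup.centralizer ({g} : Set G))
    rw [hcent, hcard, mul_assoc] at h
    exact Nat.eq_of_mul_eq_mul_left hp.out.pos h
  have hy0 : (y : ℂ) ≠ 0 := Nat.cast_ne_zero.2 (by have := S.two_e_succ; omega)
  have h2 : MemLocalIdeal M ((2 ^ b : ℕ) : ℂ) := (LI.natCast_iff hM _).2 (dvd_pow_self 2 hb)
  have hom : ∀ ξ ∈ S.K.Y, MemLocalIdeal M (centralChar (ξ : G → ℂ) g) := fun ξ hξ => by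
    rw [centralChar, hidx, irr_one_eq, S.K.deg_Y ξ hξ, S.deg, Nat.cast_mul, mul_right_comm,
      mul_div_cancel_right₀ _ hy0]
    exact LI.mul_right hM h2 (LR.of_isIntegral hM (irr_isIntegral ξ g))
  exact LI.sub hM (hom η hη) (hom η' hη')

set_option maxHeartbeats 800000 in
/-- The Sylow 2-subgroup is small. -/
theorem sylow_two_le [IsSimpleGroup G] (hna : Subgroup.center G = ⊥) {a b : ℕ} (hea : e = 2 ^ a) (hb : b ≠ 0)
    (hcard : Nat.card G = p * 2 ^ b * y) (ho : Odd y)
    (heven : ∀ χ ∈ S.K.X, χ ≠ DegreeTools.oneChar G → 2 ∣ charDegree (χ : G → ℂ)) : 2 ^ b ≤ y * y := by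
  have : Fact (Nat.Prime 2) := ⟨Nat.prime_two⟩
  obtain ⟨M, hM⟩ := exists_isPModular Nat.prime_two
  obtain ⟨hplus, hminus⟩ := S.degrees ho heven
  obtain ⟨hone, hones⟩ := S.one_mem
  obtain ⟨hpe, -⟩ := S.two_e_succ
  obtain ⟨T⟩ : Nonempty (Sylow 2 G) := inferInstance
  have hdvdT : 2 ^ b ∣ Nat.card T := by
    rw [T.card_eq_multiplicity]
    exact pow_dvd_pow 2 ((Nat.prime_two.pow_dvd_iff_le_factorization Nat.card_pos.ne').1
      (hcard ▸ ⟨p * y, by ring⟩))
  have : Nontrivial (T : Subgroup G) := by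
    rw [← Finite.one_lt_card_iff_nontrivial]
    exact lt_of_lt_of_le (Nat.one_lt_two_pow hb) (Nat.le_of_dvd Nat.card_pos hdvdT)
  have := T.2.center_nontrivial
  obtain ⟨w, hw⟩ : ∃ w : Subgroup.center (T : Subgroup G), orderOf w = 2 := by
    obtain ⟨k, hk⟩ := (T.2.to_subgroup (Subgroup.center (T : Subgroup G))).exists_card_eq
    refine exists_prime_orderOf_dvd_card' 2 ?_
    rw [hk]
    refine dvd_pow_self 2 ?_
    rintro rfl
    rw [pow_zero] at hk
    exact (Finite.one_lt_card_iff_nontrivial.2 inferInstance).ne' hk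
  set z : G := ((w : (T : Subgroup G)) : G) with hz
  have hz2 : z * z = 1 := by
    have h := pow_orderOf_eq_one w
    rw [hw, pow_two] at h
    rw [hz, ← Subgroup.coe_mul, ← Subgroup.coe_mul, h]
    rfl
  have hz1 : z ≠ 1 := fun h => by
    have : w = 1 := Subtype.ext (Subtype.ext h)
    rw [this, orderOf_one] at hw
    omega
  set hh := (Subgroup.centralizer ({z} : Set G)).index with hhdef
  have hodd : ¬ 2 ∣ hh := by
    intro h
    refine T.not_dvd_index (h.trans (Subgroup.index_dvd_of_le fun u hu => ?_))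
    rw [Subgroup.mem_centralizer_singleton_iff]
    exact congrArg Subtype.val (Subgroup.mem_center_iff.1 w.2 ⟨u, hu⟩)
  set B := principalBlock M G
  have hout : ∀ χ ∈ S.K.X, S.K.s χ = -1 → χ ∉ B := by
    intro χ hχ hs hB
    have hd := hminus χ hχ hs
    have hx2 : p - 1 = 2 ^ (a + 1) := by rw [pow_succ, ← hea]; omega
    have hfaith := faithful_of_simple χ (by have := S.two_e; omega)
    obtain ⟨c, hc⟩ := exists_int_involution (isCharacter_irr χ) hz2
    have hsame : MemLocalIdeal M (centralChar (fun _ : G => (1 : ℂ)) z - centralChar (χ : G → ℂ) z) := hB z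
    rw [centralChar, centralChar, div_one, mul_one, ← hhdef, hc, irr_one_eq, hd] at hsame
    obtain ⟨k, hk⟩ : ∃ k : ℤ, (hh : ℤ) * c = k * (p - 1 : ℕ) := by
      have hint := CfsgLib.Blocks.isIntegral_centralChar χ z
      rw [centralChar, ← hhdef, hc, irr_one_eq, hd] at hint
      obtain ⟨k, hk⟩ := exists_int_of_isIntegral_rat hint (q := ((hh : ℚ) * (c : ℚ)) / ((p - 1 : ℕ) : ℚ))
        (by push_cast; rfl)
      refine ⟨k, ?_⟩
      have hne : ((p - 1 : ℕ) : ℂ) ≠ 0 := Nat.cast_ne_zero.2 (by have := hp.out.two_le; omega)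
      rw [div_eq_iff hne] at hk
      exact_mod_cast hk
    have hcd : ((p - 1 : ℕ) : ℤ) ∣ c := by
      refine Int.dvd_of_dvd_mul_right_of_gcd_one ⟨k, by rw [hk]; ring⟩ ?_
      show Nat.gcd (p - 1) hh = 1
      rw [hx2]
      exact Nat.Coprime.pow_left _ ((Nat.prime_two.coprime_iff_not_dvd).2 hodd)
    obtain ⟨q, hq⟩ := hcd
    have hnorm := DegreeTools.norm_apply_le χ z
    rw [hc, Complex.norm_intCast, hd, hq] at hnorm
    have hnorm' : |((p - 1 : ℕ) : ℤ) * q| ≤ ((p - 1 : ℕ) : ℤ) := by exact_mod_cast hnorm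
    rw [abs_mul, Nat.abs_cast] at hnorm'
    have hq1 : |q| ≤ 1 := by
      refine le_of_mul_le_mul_left (hnorm'.trans_eq (mul_one _).symm) ?_
      have := S.two_e
      omega
    rcases eq_or_ne q 0 with h0 | h0
    · rw [hq, h0, mul_zero, Int.cast_zero, mul_zero, zero_div, sub_zero] at hsame
      exact hodd ((LI.natCast_iff hM hh).1 hsame)
    · refine hz1 (Subgroup.mem_bot.1 (hna ▸ DegreeTools.mem_center_of_norm_eq χ hfaith z ?_))
      have hq' : |q| = 1 := le_antisymm hq1 (Int.one_le_abs h0)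
      rw [hc, Complex.norm_intCast, hd, hq, Int.cast_mul, abs_mul,
        show |((q : ℤ) : ℝ)| = 1 by exact_mod_cast hq', mul_one, Int.cast_natCast, Nat.abs_cast]
  have hB : IsPBlock M B := isPBlock_principalBlock
  have honeB : DegreeTools.oneChar G ∈ B := SameBlock_refl hM _
  -- the block sum at `x`
  set V := ∑ χ ∈ (S.K.X.filter fun χ => S.K.s χ = 1).filter (fun χ => χ ∈ B), charDegree (χ : G → ℂ)
    + if (∀ η ∈ S.K.Y, η ∈ B) then y else 0 with hV
  have hV1 : 1 ≤ V := by
    rw [hV]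
    refine le_trans ?_ (Nat.le_add_right _ _)
    refine le_trans (le_of_eq DegreeTools.deg_oneChar.symm) (Finset.single_le_sum
      (f := fun χ : IrrCharacter G => charDegree (χ : G → ℂ)) (fun _ _ => Nat.zero_le _)
      (Finset.mem_filter.2 ⟨Finset.mem_filter.2 ⟨hone, hones⟩, honeB⟩))
  have hVle : V ≤ y * y := by
    rw [hV]
    refine le_trans (add_le_add (Finset.sum_le_sum_of_subset (Finset.filter_subset _ _)) ?_) hplus
    split_ifs <;> omega
  have h1 : (1 : ZMod p) ≠ 0 := one_ne_zero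
  have hx : ¬ 2 ∣ orderOf (D.x ^ (1 : ZMod p).val) := by
    rw [D.orderOf_xpow h1]
    intro h
    have := (Nat.prime_dvd_prime_iff_eq Nat.prime_two hp.out).1 h
    omega
  have hval : ∑ ψ : IrrCharacter G, blockInd B ψ * ((ψ : G → ℂ) 1 * (ψ : G → ℂ) (D.x ^ (1 : ZMod p).val)) = (V : ℂ) := by
    rw [← Finset.sum_subset (Finset.subset_univ (S.K.X ∪ S.K.Y)) fun χ _ hχ => by
        rw [S.val_out (fun h => hχ (Finset.mem_union_left _ h)) (fun h => hχ (Finset.mem_union_right _ h)) h1, mul_zero,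
          mul_zero],
      Finset.sum_union S.K.disj, hV, Nat.cast_add]
    congr 1
    · rw [Finset.filter_filter, Nat.cast_sum, Finset.sum_filter]
      refine Finset.sum_congr rfl fun χ hχ => ?_
      rw [S.val_X hχ h1, irr_one_eq]
      rcases S.K.sgn_X χ hχ with hs | hs
      · by_cases hmem : χ ∈ B
        · rw [blockInd_of_mem hmem, if_pos ⟨hs, hmem⟩, hs, Int.cast_one, one_mul, mul_one]
        · rw [blockInd_of_notMem hmem, if_neg fun h => hmem h.2, zero_mul]
      · rw [blockInd_of_notMem (hout χ hχ hs), if_neg fun h => by rw [hs] at h; exact absurd h.1 (by norm_num), zero_mul]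
    · by_cases hall : ∀ η ∈ S.K.Y, η ∈ B
      · rw [if_pos hall, Finset.sum_congr rfl fun η hη => by
          rw [blockInd_of_mem (hall η hη), one_mul, irr_one_eq, S.K.deg_Y η hη, S.deg], ← Finset.mul_sum, S.sum_Y h1,
          mul_one]
      · rw [if_neg hall, Nat.cast_zero]
        refine Finset.sum_eq_zero fun η hη => ?_
        rw [blockInd_of_notMem fun h => hall fun η' hη' =>
          (IsPBlock.mem_iff hM hB h).2 (S.eq_sameBlock hM hb hcard hη hη'), zero_mul]
  choose k hk using fun ψ : IrrCharacter G =>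
    IsCharacter.classInner_nat (IsCharacter.restrict (isCharacter_irr ψ) (T : Subgroup G))
      (isCharacter_irr (DegreeTools.oneChar (T : Subgroup G)))
  have hkey : (V : ℂ) = (Nat.card T : ℂ) *
      ∑ ψ : IrrCharacter G, blockInd B ψ * (ψ : G → ℂ) (D.x ^ (1 : ZMod p).val) * (k ψ : ℂ) := by
    rw [← hval, Finset.mul_sum]
    have hsingle : ∑ s : (T : Subgroup G), ∑ ψ : IrrCharacter G,
        blockInd B ψ * ((ψ : G → ℂ) s * (ψ : G → ℂ) (D.x ^ (1 : ZMod p).val))
        = ∑ ψ : IrrCharacter G, blockInd B ψ * ((ψ : G → ℂ) 1 * (ψ : G → ℂ) (D.x ^ (1 : ZMod p).val)) := by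
      rw [Finset.sum_eq_single (1 : (T : Subgroup G))]
      · rfl
      · intro s _ hs
        refine IsPBlock.sum_mul_eq_zero hM hB ?_ hx
        obtain ⟨j, hj⟩ := IsPGroup.iff_orderOf.1 T.2 s
        rw [Subgroup.orderOf_coe, hj]
        exact dvd_pow_self 2 fun h0 => hs (orderOf_eq_one_iff.1 (by rw [hj, h0, pow_zero]))
      · exact fun h => absurd (Finset.mem_univ _) h
    rw [← hsingle, Finset.sum_comm]
    refine Finset.sum_congr rfl fun ψ _ => ?_
    have hsum : ∑ s : (T : Subgroup G), (ψ : G → ℂ) s = (Nat.card T : ℂ) * (k ψ : ℂ) := by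
      have h := hk ψ
      rw [Cfsg.classInner, inv_mul_eq_iff_eq_mul₀ Char.card_ne_zero] at h
      rw [← h]
      exact Finset.sum_congr rfl fun s _ => by rw [DegreeTools.coe_oneChar, map_one, mul_one]
    rw [← Finset.mul_sum, ← Finset.sum_mul, hsum]
    ring
  have hcT : (Nat.card T : ℂ) ≠ 0 := Nat.cast_ne_zero.2 Nat.card_pos.ne'
  have hint : IsIntegral ℤ ((V : ℂ) / (Nat.card T : ℂ)) := by
    rw [hkey, mul_div_cancel_left₀ _ hcT]
    refine IsIntegral.sum _ fun ψ _ => IsIntegral.mul (IsIntegral.mul ?_ (irr_isIntegral ψ _)) (isIntegral_natCast _)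
    rw [blockInd]
    split_ifs
    · exact isIntegral_one
    · exact isIntegral_zero
  obtain ⟨j, hj⟩ := exists_int_of_isIntegral_rat hint (q := (V : ℚ) / (Nat.card T : ℚ)) (by push_cast; rfl)
  rw [div_eq_iff hcT] at hj
  have hdvd : Nat.card T ∣ V := by
    have h : (V : ℤ) = j * (Nat.card T : ℤ) := by exact_mod_cast hj
    exact Int.natCast_dvd_natCast.1 ⟨j, by rw [h, mul_comm]⟩
  exact le_trans (Nat.le_of_dvd Nat.card_pos hdvdT) (le_trans (Nat.le_of_dvd (by omega) hdvd) hVle)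

end Setting

end CfsgLib.Char.DegPMinusE
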